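import Mathlib
import Cfsg.Agent.H44.NormalDegrees
import Cfsg.Agent.H44.TISylow
import Cfsg.Agent.H27.Permutation
import Cfsg.Agent.H26.CharLinear
import Cfsg.Agent.H35.Constrained
import Cfsg.Agent.H84.PSolvable
import Cfsg.Agent.S0169
import Cfsg.Agent.H80.PrimitiveNormal

/-!
# The Itô–Michler theorem for `p`-solvable groups
-/

set_option autoImplicit false
open scoped ComplexConjugate Pointwise

namespace Cfsg.Agent.H44

universe u

/-- A `p`-group all of whose irreducible degrees are prime to `p` is abelian. -/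
theorem comm_of_pGroup_of_not_dvd {P : Type*} [Group P] [Finite P] {p : ℕ} [hp : Fact p.Prime]
    (hP : IsPGroup p P) (h : ∀ θ : Cfsg.IrrCharacter P, ¬ p ∣ Cfsg.charDegree (θ : P → ℂ)) :
    ∀ a b : P, a * b = b * a := by
  refine H26.comm_iff_forall_irr_one.mpr fun θ => ?_
  obtain ⟨m, hm⟩ := hP.exists_card_eq
  have hd := charDegree_dvd_card θ
  rw [hm] at hd
  obtain ⟨j, -, hj⟩ := (Nat.dvd_prime_pow hp.out).mp hd
  rw [← cast_charDegree, hj]
  cases j with
  | zero => simp
  | succ j => exact absurd (hj ▸ dvd_pow_self p (Nat.succ_ne_zero j)) (h θ)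

/-- A `p`-group acting on a `p'`-group fixing every irreducible character centralizes it. -/
theorem le_centralizer_of_fixes_irr {G : Type u} [Group G] [Finite G] {p : ℕ} [Fact p.Prime]
    (P : Subgroup G) (hP : IsPGroup p P) (M : Subgroup G) [M.Normal]
    (hcop : (Nat.card M).Coprime p)
    (hfix : ∀ θ : Cfsg.IrrCharacter M, P ≤ inertia M θ.1) :
    M ≤ Subgroup.centralizer (P : Set G) := by
  classical
  -- every class of `M` is fixed
  have hcls : ∀ a ∈ P, ∀ m : M, IsConj m ((MulAut.conjNormal a : MulAut M) m) := by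
    intro a ha m
    refine (H26.isConj_iff_forall_irr _ _).mpr fun θ => ?_
    have h := congrFun (mem_inertia M |>.mp (hfix θ ha)) m
    rw [← h]
    exact congrArg θ.1 (Subtype.ext (by rw [MulAut.conjNormal_apply]))
  -- fixed points in each class
  set C := Subgroup.centralizer (P : Set G) ⊓ M
  suffices hsuff : ∀ m : M, ∃ c : M, IsConj m c ∧ (c : G) ∈ Subgroup.centralizer (P : Set G) by
    have htop : (Subgroup.centralizer (P : Set G)).subgroupOf M = ⊤ := by
      by_contra hne
      obtain ⟨m, hm⟩ := H80.exists_forall_conj_notMem _ hne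
      obtain ⟨c, hc, hcC⟩ := hsuff m
      obtain ⟨x, hx⟩ := isConj_iff.mp hc
      refine hm x⁻¹ ?_
      rw [inv_inv, hx]
      exact hcC
    exact Subgroup.subgroupOf_eq_top.mp htop
  intro m
  let X := {c : M // IsConj m c}
  letI : MulAction P X :=
    { smul := fun a c => ⟨(MulAut.conjNormal (a : G) : MulAut M) c.1,
        c.2.trans (hcls a a.2 c.1)⟩
      one_smul := fun c => Subtype.ext (by
        show (MulAut.conjNormal ((1 : P) : G) : MulAut M) c.1 = c.1
        simp)
      mul_smul := fun a b c => Subtype.ext (by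
        show (MulAut.conjNormal ((a * b : P) : G) : MulAut M) c.1 =
          (MulAut.conjNormal (a : G) : MulAut M) ((MulAut.conjNormal (b : G) : MulAut M) c.1)
        simp) }
  have hnd : ¬ p ∣ Nat.card X := by
    intro hd
    have h1 : Nat.card X ∣ Nat.card M := Dvd.intro _ (card_isConj_mul_card_centralizer m)
    exact (Fact.out : p.Prime).coprime_iff_not_dvd.mp hcop.symm (hd.trans h1)
  obtain ⟨c, hc⟩ := hP.nonempty_fixed_point_of_prime_not_dvd_card X hnd
  refine ⟨c.1, c.2, Subgroup.mem_centralizer_iff.mpr fun a ha => ?_⟩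
  have h := congrArg (fun y : X => ((y.1 : M) : G)) (hc ⟨a, ha⟩)
  change a * ((c.1 : M) : G) * a⁻¹ = ((c.1 : M) : G) at h
  exact mul_inv_eq_iff_eq_mul.mp h

/-- Itô–Michler for `p`-solvable groups. -/
theorem normal_sylow_of_not_dvd_degrees {p : ℕ} [hp : Fact p.Prime] :
    ∀ (n : ℕ) (G : Type u) [Group G] [Finite G], Nat.card G = n → Cfsg.IsPSolvable p G →
      (∀ χ : Cfsg.IrrCharacter G, ¬ p ∣ Cfsg.charDegree (χ : G → ℂ)) →
      ∀ P : Sylow p G, (P : Subgroup G).Normal ∧ IsMulCommutative (P : Subgroup G) := by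
  intro n
  induction n using Nat.strong_induction_on with
  | _ n ih =>
  intro G _ _ hn hsolv hdeg P
  classical
  suffices hPn : (P : Subgroup G).Normal by
    haveI := hPn
    exact ⟨hPn, ⟨⟨comm_of_pGroup_of_not_dvd P.isPGroup' fun θ =>
      (not_dvd_degree_normal _ hdeg θ).1⟩⟩⟩
  by_cases htriv : Nat.card G = 1
  · haveI : Subsingleton G := (Nat.card_eq_one_iff_unique.mp htriv).1
    exact ⟨fun x hx g => by rwa [Subsingleton.elim (g * x * g⁻¹) x]⟩
  -- a proper normal subgroup with `p`-power or `p'` index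
  obtain ⟨M, hMn, hMlt, hMidx⟩ : ∃ M : Subgroup G, M.Normal ∧ M ≠ ⊤ ∧
      ((∃ m : ℕ, M.index = p ^ m) ∨ M.index.Coprime p) := by
    obtain ⟨k, H, h0, hlast, hmono, hnor, hstep⟩ := hsolv
    haveI : Nontrivial G := Finite.one_lt_card_iff_nontrivial.mp
      (by have := Nat.card_pos (α := G); omega)
    have key : ∀ i : Fin (k + 1), H i = ⊤ → ∃ M : Subgroup G, M.Normal ∧ M ≠ ⊤ ∧
        ((∃ m : ℕ, M.index = p ^ m) ∨ M.index.Coprime p) := by
      intro i
      induction i using Fin.induction with
      | zero => intro h; exact absurd (h0.symm.trans h) bot_ne_top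
      | succ j ihj =>
        intro h
        by_cases hj : H j.castSucc = ⊤
        · exact ihj hj
        · refine ⟨H j.castSucc, hnor _, hj, ?_⟩
          have := hstep j
          rwa [h, Subgroup.relIndex_top_right] at this
    exact key _ hlast
  haveI := hMn
  have hcardlt : Nat.card M < n := by
    rw [← hn, ← Subgroup.card_top (G := G)]
    exact Nat.lt_of_le_of_ne (Subgroup.card_dvd_of_le le_top |> Nat.le_of_dvd Nat.card_pos)
      fun h => hMlt (Subgroup.eq_of_le_of_card_ge le_top h.ge)
  obtain ⟨Q, hQ⟩ := exists_sylow_eq_subgroupOf P M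
  obtain ⟨hQn, hQc⟩ := ih _ hcardlt M rfl (H35.isPSolvable_subgroup hsolv M)
    (fun θ => (not_dvd_degree_normal M hdeg θ).1) Q
  haveI := hQn
  haveI : (Q : Subgroup M).Characteristic := Sylow.characteristic_of_normal Q hQn
  have hKn : ((Q : Subgroup M).map M.subtype).Normal := ConjAct.normal_of_characteristic_of_normal
  set K := (Q : Subgroup M).map M.subtype with hK
  haveI := hKn
  have hKP : K = (P : Subgroup G) ⊓ M := by
    rw [hK, hQ, Subgroup.subgroupOf_map_subtype]
  by_cases hK1 : K = ⊥
  · -- `M` is a `p'`-group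
    have hMcop : (Nat.card M).Coprime p := by
      refine Nat.Coprime.symm (hp.out.coprime_iff_not_dvd.mpr fun hd => ?_)
      exact inf_sylow_ne_bot_of_normal P M hd (hKP ▸ hK1)
    rcases hMidx with ⟨m, hm⟩ | hidx
    · have hPM : (P : Subgroup G) ⊔ M = ⊤ := by
        refine Subgroup.index_eq_one.mp (Nat.eq_one_of_dvd_coprimes (a := (P : Subgroup G).index)
          (b := p ^ m) ?_ (Subgroup.index_dvd_of_le le_sup_left)
          (hm ▸ Subgroup.index_dvd_of_le le_sup_right))
        exact Nat.Coprime.pow_right m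
          (Nat.Coprime.symm (hp.out.coprime_iff_not_dvd.mpr P.not_dvd_index))
      have hfix : ∀ θ : Cfsg.IrrCharacter M, (P : Subgroup G) ≤ inertia M θ.1 := by
        intro θ
        have hle := le_inertia M (H26.irr_isClassFunction θ)
        have h1 : (inertia M θ.1).index ∣ p ^ m := hm ▸ Subgroup.index_dvd_of_le hle
        have h2 : (inertia M θ.1).index = 1 := Nat.eq_one_of_dvd_coprimes
          (Nat.Coprime.pow_left m (hp.out.coprime_iff_not_dvd.mpr
            (not_dvd_degree_normal M hdeg θ).2)) h1 dvd_rfl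
        rw [Subgroup.index_eq_one.mp h2]
        exact le_top
      have hc := le_centralizer_of_fixes_irr (P : Subgroup G) P.isPGroup' M hMcop hfix
      refine Subgroup.normalizer_eq_top_iff.mp (top_unique ?_)
      rw [← hPM]
      exact sup_le Subgroup.le_normalizer (hc.trans (Subgroup.centralizer_le_normalizer _))
    · -- `G` is a `p'`-group
      have hPb : (P : Subgroup G) = ⊥ := by
        rw [← Subgroup.card_eq_one, P.card_eq_multiplicity, ← M.card_mul_index,
          Nat.factorization_eq_zero_of_not_dvd (hp.out.coprime_iff_not_dvd.mp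
            (Nat.Coprime.mul_left hMcop hidx).symm), pow_zero]
      rw [hPb]
      infer_instance
  · -- pass to the quotient
    have hlt : Nat.card (G ⧸ K) < n := by
      rw [← hn, K.card_eq_card_quotient_mul_card_subgroup]
      refine lt_mul_of_one_lt_right Nat.card_pos ?_
      rwa [Subgroup.one_lt_card_iff_ne_bot]
    have hsq := H84.isPSolvable_of_surjective (QuotientGroup.mk' K)
      (QuotientGroup.mk'_surjective K) hsolv
    obtain ⟨hn', -⟩ := ih _ hlt (G ⧸ K) rfl hsq
      (fun ψ h => hdeg (inflate K ψ) (by rwa [charDegree_inflate]))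
      (P.mapSurjective (QuotientGroup.mk'_surjective K))
    rw [Sylow.coe_mapSurjective] at hn'
    have h := hn'.comap (QuotientGroup.mk' K)
    rw [Subgroup.comap_map_eq_self] at h
    · exact h
    · rw [QuotientGroup.ker_mk', hKP]
      exact inf_le_left

end Cfsg.Agent.H44
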