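import Mathlib
import Cfsg.Agent.H44.TISylow

/-!
# Small representations of groups with a trivial intersection Sylow subgroup

If a representation is smaller than a trivial intersection Sylow `p`-subgroup, an overgroup of
the Sylow normalizer fixes no more vectors than the whole group.
-/

set_option autoImplicit false
open scoped Pointwise
open IsLocalRing

namespace Cfsg.Agent.H44

/-- There is a valuation ring of `ℂ` in which the prime `p` is not a unit. -/
theorem exists_valuationSubring_natCast_mem (p : ℕ) [hp : Fact p.Prime] :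
    ∃ O : ValuationSubring ℂ, (p : O) ∈ maximalIdeal O := by
  set A : Subring ℂ := (Int.castRingHom ℂ).range
  have hI : Ideal.span {(p : A)} ≠ ⊤ := by
    rw [Ne, Ideal.span_singleton_eq_top]
    intro hu
    obtain ⟨⟨b, n, hn⟩, hb⟩ := isUnit_iff_exists_inv.mp hu
    have hb' := congrArg Subtype.val hb
    push_cast at hb'
    rw [← hn] at hb'
    have h : ((p * n : ℤ) : ℂ) = ((1 : ℤ) : ℂ) := by push_cast; exact hb'
    exact hp.out.one_lt.ne' (by
      have := Int.eq_one_of_mul_eq_one_right (by positivity) (Int.cast_injective h)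
      exact_mod_cast this)
  obtain ⟨O, -, hO⟩ := Ideal.image_subset_nonunits_valuationSubring _ hI
  refine ⟨O, ?_⟩
  have hmem := hO ⟨(p : A), Ideal.mem_span_singleton_self _, rfl⟩
  rw [← O.image_maximalIdeal] at hmem
  obtain ⟨x, hx, hxp⟩ := hmem
  have : x = (p : O) := Subtype.ext (by simpa using hxp)
  exact this ▸ hx

/-- A nonzero element in a translation invariant finite additive group of functions on a `p`-group,
killed by `p`, forces a nonzero constant function in the group. -/
theorem exists_const_mem_of_invariant {P : Type*} [Group P] [Finite P] {p : ℕ} [Fact p.Prime]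
    (hP : IsPGroup p P) {k : Type*} [AddCommGroup k] (hk : ∀ c : k, p • c = 0)
    (K : AddSubgroup (P → k)) (hK : ∀ y : P, ∀ a ∈ K, (fun x => a (y * x)) ∈ K)
    {b : P → k} (hb : b ∈ K) (hb0 : b ≠ 0) : ∃ c : k, c ≠ 0 ∧ (fun _ : P => c) ∈ K := by
  classical
  set S : Set (P → k) := Set.range fun y : P => fun x => b (y * x)
  set C := AddSubgroup.closure S
  have hCK : C ≤ K := (AddSubgroup.closure_le _).mpr (by rintro _ ⟨y, rfl⟩; exact hK y b hb)
  have hCinv : ∀ y : P, ∀ a ∈ C, (fun x => a (y * x)) ∈ C := by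
    intro y a ha
    induction ha using AddSubgroup.closure_induction with
    | mem a ha =>
      obtain ⟨z, rfl⟩ := ha
      exact AddSubgroup.subset_closure ⟨z * y, funext fun x => by simp [mul_assoc]⟩
    | zero => exact zero_mem _
    | add a a' _ _ iha iha' => exact add_mem iha iha'
    | neg a _ iha => exact neg_mem iha
  haveI : AddGroup.FG C :=
    (AddGroup.fg_iff_addSubgroup_fg _).mpr
      ⟨(Set.finite_range fun y : P => fun x => b (y * x)).toFinset, by
        rw [Set.Finite.coe_toFinset]⟩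
  have htor : ∀ c : C, p • c = 0 := fun c => Subtype.ext (funext fun x => by simp [hk])
  haveI : Finite C := AddCommGroup.finite_of_fg_torsion _ fun c =>
    isOfFinAddOrder_iff_nsmul_eq_zero.mpr ⟨p, (Fact.out : p.Prime).pos, htor c⟩
  letI : MulAction P C :=
    { smul := fun y a => ⟨fun x => a.1 (y⁻¹ * x), hCinv y⁻¹ a.1 a.2⟩
      one_smul := fun a => Subtype.ext (funext fun x => by
        show a.1 ((1 : P)⁻¹ * x) = a.1 x
        simp)
      mul_smul := fun y z a => Subtype.ext (funext fun x => by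
        show a.1 ((y * z)⁻¹ * x) = a.1 (z⁻¹ * (y⁻¹ * x))
        simp [mul_assoc]) }
  have hbC : b ∈ C := AddSubgroup.subset_closure ⟨1, by simp⟩
  have hb0' : (⟨b, hbC⟩ : C) ≠ 0 := fun h => hb0 (congrArg Subtype.val h)
  have hdvd : p ∣ Nat.card C := by
    have h := addOrderOf_dvd_natCard (⟨b, hbC⟩ : C)
    rwa [addOrderOf_eq_prime (htor _) hb0'] at h
  have h0 : (0 : C) ∈ MulAction.fixedPoints P C := fun y => rfl
  obtain ⟨a, ha, hne⟩ := hP.exists_fixed_point_of_prime_dvd_card_of_fixed_point C hdvd h0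
  have hconst : a.1 = fun _ => a.1 1 := funext fun x => by
    have h := congrFun (congrArg Subtype.val (ha x⁻¹)) 1
    change a.1 (x⁻¹⁻¹ * 1) = a.1 1 at h
    simpa using h
  have hmem : (fun _ : P => a.1 1) ∈ K := by
    rw [← hconst]
    exact hCK a.2
  refine ⟨a.1 1, fun h => hne (Subtype.ext ?_), hmem⟩
  rw [hconst, h]
  rfl

/-- If `|P|` exceeds the dimension, the orbit sum maps a stable lattice into `𝔪` times it. -/
theorem sum_orbit_mem_smul {P : Type*} [Group P] [Fintype P] {p : ℕ} [Fact p.Prime]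
    (hP : IsPGroup p P) (O : ValuationSubring ℂ) (hpO : (p : O) ∈ maximalIdeal O)
    {V : Type*} [AddCommGroup V] [Module ℂ V] [FiniteDimensional ℂ V]
    (σ : Representation ℂ P V) (hdim : Module.finrank ℂ V < Fintype.card P)
    (L : Submodule O V) (hL : ∀ x : P, ∀ u ∈ L, σ x u ∈ L) {u : V} (hu : u ∈ L) :
    ∑ x : P, σ x u ∈ maximalIdeal O • L := by
  classical
  set M := maximalIdeal O • L
  set k := O ⧸ maximalIdeal O
  have hMinv : ∀ y : P, ∀ z ∈ M, σ y z ∈ M := by
    intro y z hz
    refine Submodule.smul_induction_on hz (fun c hc n hn => ?_) (fun a b ha hb => ?_)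
    · rw [show c • n = (c : ℂ) • n from (IsScalarTower.algebraMap_smul ℂ c n).symm, map_smul,
        show (c : ℂ) • σ y n = c • σ y n from IsScalarTower.algebraMap_smul ℂ c _]
      exact Submodule.smul_mem_smul hc (hL y n hn)
    · rw [map_add]; exact add_mem ha hb
  let K : AddSubgroup (P → k) :=
    { carrier := {ā | ∃ a : P → O, (∀ x, Ideal.Quotient.mk _ (a x) = ā x) ∧
        ∑ x : P, a x • σ x u ∈ M}
      zero_mem' := ⟨fun _ => 0, fun x => map_zero _, by
        simp only [zero_smul, Finset.sum_const_zero, zero_mem]⟩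
      add_mem' := fun {s t} ⟨a, ha, ha'⟩ ⟨b, hb, hb'⟩ => ⟨a + b,
        fun x => by simp [ha, hb], by simpa [add_smul, Finset.sum_add_distrib] using add_mem ha' hb'⟩
      neg_mem' := fun {s} ⟨a, ha, ha'⟩ => ⟨-a, fun x => by simp [ha],
        by simpa [Finset.sum_neg_distrib] using neg_mem ha'⟩ }
  have hKinv : ∀ y : P, ∀ ā ∈ K, (fun x => ā (y * x)) ∈ K := by
    rintro y ā ⟨a, ha, ha'⟩
    refine ⟨fun x => a (y * x), fun x => ha _, ?_⟩
    have h := hMinv y⁻¹ _ ha'
    rw [map_sum] at h
    have e : ∑ x : P, σ y⁻¹ (a x • σ x u) = ∑ x : P, a (y * x) • σ x u :=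
      Fintype.sum_equiv (Equiv.mulLeft y⁻¹) _ _ fun x => by
        show σ y⁻¹ (a x • σ x u) = a (y * (y⁻¹ * x)) • σ (y⁻¹ * x) u
        rw [← IsScalarTower.algebraMap_smul ℂ (a x) (σ x u), map_smul,
          IsScalarTower.algebraMap_smul, ← Module.End.mul_apply, ← map_mul, mul_inv_cancel_left]
    rwa [e] at h
  obtain ⟨g, hg, x₁, hx₁⟩ : ∃ g : P → ℂ, ∑ x : P, g x • σ x u = 0 ∧ ∃ x, g x ≠ 0 := by
    have h : ¬ LinearIndependent ℂ (fun x : P => σ x u) := fun h =>
      absurd h.fintype_card_le_finrank (not_le.mpr hdim)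
    exact Fintype.not_linearIndependent_iff.mp h
  obtain ⟨x₀, -, hmax⟩ := Finset.exists_max_image Finset.univ (fun x => O.valuation (g x))
    ⟨1, Finset.mem_univ _⟩
  have hg0 : g x₀ ≠ 0 := by
    intro h0
    have := hmax x₁ (Finset.mem_univ _)
    rw [h0, map_zero] at this
    exact hx₁ ((map_eq_zero O.valuation).mp (le_antisymm this zero_le))
  have hmemO : ∀ x, g x / g x₀ ∈ O := fun x => by
    rw [← O.valuation_le_one_iff, map_div₀]
    exact div_le_one_of_le₀ (hmax x (Finset.mem_univ _)) zero_le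
  let a : P → O := fun x => ⟨g x / g x₀, hmemO x⟩
  have hb : (fun x => Ideal.Quotient.mk (maximalIdeal O) (a x)) ∈ K := by
    refine ⟨a, fun x => rfl, ?_⟩
    have h : ∑ x : P, a x • σ x u = (g x₀)⁻¹ • ∑ x : P, g x • σ x u := by
      rw [Finset.smul_sum]
      refine Finset.sum_congr rfl fun x _ => ?_
      rw [smul_smul, ← IsScalarTower.algebraMap_smul ℂ (a x) (σ x u)]
      congr 1
      show g x / g x₀ = _
      rw [div_eq_inv_mul]
    rw [h, hg, smul_zero]
    exact zero_mem _
  have hb0 : (fun x => Ideal.Quotient.mk (maximalIdeal O) (a x)) ≠ 0 := by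
    intro h
    have h1 := congrFun h x₀
    rw [Pi.zero_apply, Ideal.Quotient.eq_zero_iff_mem, mem_maximalIdeal, mem_nonunits_iff] at h1
    refine h1 ?_
    rw [show a x₀ = 1 from Subtype.ext (div_self hg0)]
    exact isUnit_one
  have hk : ∀ c : k, p • c = 0 := fun c => by
    rw [nsmul_eq_mul, show ((p : k)) = Ideal.Quotient.mk (maximalIdeal O) (p : O) from
      (map_natCast _ p).symm, Ideal.Quotient.eq_zero_iff_mem.mpr hpO, zero_mul]
  obtain ⟨c, hc, b, hbc, hbM⟩ := exists_const_mem_of_invariant hP hk K hKinv hb hb0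
  have hc₁ : b 1 ∉ maximalIdeal O := fun h =>
    hc ((hbc 1).symm.trans (Ideal.Quotient.eq_zero_iff_mem.mpr h))
  obtain ⟨e, he⟩ : IsUnit (b 1) := by
    by_contra h
    exact hc₁ h
  have hdiff : ∑ x : P, (b x - b 1) • σ x u ∈ M := Submodule.sum_mem _ fun x _ =>
    Submodule.smul_mem_smul (Ideal.Quotient.eq.mp ((hbc x).trans (hbc 1).symm)) (hL x u hu)
  have h1 := sub_mem hbM hdiff
  simp only [sub_smul, Finset.sum_sub_distrib, sub_sub_cancel, ← Finset.smul_sum] at h1
  have h2 := M.smul_mem ((e⁻¹ : Oˣ) : O) h1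
  rwa [smul_smul, ← he, Units.inv_mul, one_smul] at h2

/-- If a representation is small compared to a trivial intersection Sylow subgroup, the vectors
fixed by an overgroup of the normalizer are fixed by the group, provided they have zero average. -/
theorem eq_zero_of_fixed_of_sum_eq_zero {G : Type*} [Group G] [Fintype G] {p : ℕ} [Fact p.Prime]
    (P : Sylow p G)
    (hTI : ∀ g : G, g ∉ Subgroup.normalizer ((P : Subgroup G) : Set G) →
      (P : Subgroup G) ⊓ (MulAut.conj g • (P : Subgroup G)) = ⊥)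
    (H : Subgroup G) (hH : Subgroup.normalizer ((P : Subgroup G) : Set G) ≤ H)
    {V : Type*} [AddCommGroup V] [Module ℂ V] [FiniteDimensional ℂ V]
    (ρ : Representation ℂ G V) (hdim : Module.finrank ℂ V < Nat.card (P : Subgroup G))
    {w : V} (hfix : ∀ h ∈ H, ρ h w = w) (hsum : ∑ g : G, ρ g w = 0) : w = 0 := by
  classical
  obtain ⟨O, hpO⟩ := exists_valuationSubring_natCast_mem p
  haveI : Fintype (G ⧸ H) := Fintype.ofFinite _
  haveI : Fintype H := Fintype.ofFinite _
  haveI : Fintype (P : Subgroup G) := Fintype.ofFinite _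
  let L : Submodule O V := Submodule.span O (Set.range fun g : G => ρ g w)
  have hLinv : ∀ y : G, ∀ z ∈ L, ρ y z ∈ L := by
    intro y z hz
    induction hz using Submodule.span_induction with
    | mem a ha =>
      obtain ⟨g, rfl⟩ := ha
      exact Submodule.subset_span ⟨y * g, by simp⟩
    | zero => rw [map_zero]; exact zero_mem _
    | add a b _ _ ha hb => rw [map_add]; exact add_mem ha hb
    | smul c a _ ha =>
      rw [← IsScalarTower.algebraMap_smul ℂ c a, map_smul, IsScalarTower.algebraMap_smul]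
      exact L.smul_mem c ha
  -- the coset sums
  let f : G ⧸ H → V := fun q => Quotient.liftOn' q (fun g => ρ g w) fun a b hab => by
    rw [QuotientGroup.leftRel_apply] at hab
    show ρ a w = ρ b w
    rw [show b = a * (a⁻¹ * b) from (mul_inv_cancel_left a b).symm, map_mul, Module.End.mul_apply,
      hfix _ hab]
  have hf : ∀ g : G, f (g : G ⧸ H) = ρ g w := fun g => rfl
  have hfsum : ∑ q : G ⧸ H, f q = 0 := by
    have h1 : ∑ g : G, ρ g w = (Fintype.card H) • ∑ q : G ⧸ H, f q := by
      rw [Fintype.sum_equiv (Subgroup.groupEquivQuotientProdSubgroup (s := H))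
        (fun g => ρ g w) (fun q => f q.1) (fun g => rfl), Fintype.sum_prod_type,
        Finset.smul_sum]
      refine Finset.sum_congr rfl fun q _ => ?_
      simp
    rw [hsum, ← Nat.cast_smul_eq_nsmul ℂ, eq_comm, smul_eq_zero] at h1
    exact h1.resolve_left (Nat.cast_ne_zero.mpr Fintype.card_ne_zero)
  -- orbits of `P` on cosets
  let σ : Representation ℂ (P : Subgroup G) V := ρ.comp (P : Subgroup G).subtype
  have hfequiv : ∀ (x : (P : Subgroup G)) (q : G ⧸ H), f (x • q) = σ x (f q) := by
    intro x q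
    induction q using QuotientGroup.induction_on with
    | H g =>
      show f (((x : G) * g : G) : G ⧸ H) = _
      rw [hf, hf, map_mul, Module.End.mul_apply]
      rfl
  set q₀ : G ⧸ H := ((1 : G) : G ⧸ H)
  have hfix0 : ∀ x : (P : Subgroup G), x • q₀ = q₀ := by
    intro x
    show (((x : G) * 1 : G) : G ⧸ H) = ((1 : G) : G ⧸ H)
    rw [QuotientGroup.eq]
    simpa using H.inv_mem (hH (Subgroup.le_normalizer x.2))
  have hfree : ∀ (x : (P : Subgroup G)) (q : G ⧸ H), q ≠ q₀ → x • q = q → x = 1 := by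
    intro x q hq hxq
    induction q using QuotientGroup.induction_on with
    | H g =>
      change (((x : G) * g : G) : G ⧸ H) = (g : G ⧸ H) at hxq
      rw [QuotientGroup.eq] at hxq
      by_contra hx
      apply hq
      rw [QuotientGroup.eq, mul_one]
      have hy : g⁻¹ * (x : G) * g ∈ H := by
        have := H.inv_mem hxq
        simpa [mul_assoc] using this
      obtain ⟨n, hn⟩ := P.isPGroup' x
      have hn' : (x : G) ^ p ^ n = 1 := by simpa using congrArg Subtype.val hn
      let P' : Sylow p H := P.subtype (Subgroup.le_normalizer.trans hH)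
      have hz : IsPGroup p (Subgroup.zpowers (⟨_, hy⟩ : H)) := by
        obtain ⟨j, -, hj⟩ := (Nat.dvd_prime_pow (Fact.out : p.Prime)).mp
          (orderOf_dvd_of_pow_eq_one (show (⟨_, hy⟩ : H) ^ p ^ n = 1 from Subtype.ext (by
            rw [SubmonoidClass.coe_pow]
            show (g⁻¹ * (x : G) * g) ^ p ^ n = 1
            rw [show g⁻¹ * (x : G) * g = g⁻¹ * (x : G) * g⁻¹⁻¹ by group, conj_pow, hn']
            group)))
        exact IsPGroup.of_card (n := j) (by rw [Nat.card_zpowers, hj])
      obtain ⟨R, hR⟩ := hz.exists_le_sylow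
      obtain ⟨h, hh⟩ := MulAction.exists_smul_eq H R P'
      have hmem : (h : G) * (g⁻¹ * x * g) * (h : G)⁻¹ ∈ (P : Subgroup G) := by
        have h2 := Subgroup.smul_mem_pointwise_smul _ (MulAut.conj h) (R : Subgroup H)
          (hR (Subgroup.mem_zpowers _))
        rw [← Sylow.coe_subgroup_smul, hh] at h2
        exact h2
      have hx' : (x : G) ≠ 1 := fun h' => hx (Subtype.ext h')
      have := ti_mem_normalizer hTI (g := (h : G) * g⁻¹) x.2
        (by simpa [mul_assoc] using hmem) hx'
      simpa using H.mul_mem (H.inv_mem h.2) (hH this)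
  let Ω := MulAction.orbitRel.Quotient (P : Subgroup G) (G ⧸ H)
  haveI : Fintype Ω := Fintype.ofFinite _
  let π : G ⧸ H → Ω := fun q => Quotient.mk'' q
  have horb : ∀ ω : Ω, ω ≠ π q₀ →
      ∑ q ∈ Finset.univ.filter (fun q => π q = ω), f q =
        ∑ x : (P : Subgroup G), σ x (f ω.out) := by
    intro ω hω
    have hout : π ω.out = ω := Quotient.out_eq' ω
    symm
    refine Finset.sum_bij (fun x _ => x • ω.out) (fun x _ => ?_) (fun x _ y _ hxy => ?_)
      (fun q hq => ?_) (fun x _ => (hfequiv x _).symm)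
    · rw [Finset.mem_filter]
      refine ⟨Finset.mem_univ _, Eq.trans ?_ hout⟩
      exact Quotient.eq''.mpr ⟨x, rfl⟩
    · have hne : ω.out ≠ q₀ := fun h => hω (by rw [← hout, h])
      have h1 : (y⁻¹ * x) • ω.out = ω.out := by rw [mul_smul, hxy, inv_smul_smul]
      exact (inv_mul_eq_one.mp (hfree _ _ hne h1)).symm
    · rw [Finset.mem_filter] at hq
      obtain ⟨x, hx⟩ := (Quotient.eq''.mp (hq.2.trans hout.symm) :
        q ∈ MulAction.orbit (P : Subgroup G) ω.out)
      exact ⟨x, Finset.mem_univ _, hx⟩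
  have hw0 : ∑ q ∈ Finset.univ.filter (fun q => π q = π q₀), f q = w := by
    rw [show Finset.univ.filter (fun q => π q = π q₀) = {q₀} from ?_, Finset.sum_singleton]
    · rw [hf, map_one, Module.End.one_apply]
    · ext q
      rw [Finset.mem_filter, Finset.mem_singleton]
      refine ⟨fun hq => ?_, fun hq => ⟨Finset.mem_univ _, by rw [hq]⟩⟩
      obtain ⟨x, hx⟩ := (Quotient.eq''.mp hq.2 : q ∈ MulAction.orbit (P : Subgroup G) q₀)
      rw [← hx]
      exact hfix0 x
  have hfL : ∀ q, f q ∈ L := by
    intro q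
    induction q using QuotientGroup.induction_on with
    | H g => exact Submodule.subset_span ⟨g, rfl⟩
  set M := maximalIdeal O • L
  have hwM : w ∈ M := by
    have hsplit := Finset.sum_fiberwise (Finset.univ : Finset (G ⧸ H)) π f
    rw [hfsum, ← Finset.add_sum_erase _ _ (Finset.mem_univ (π q₀)), hw0] at hsplit
    rw [eq_neg_of_add_eq_zero_left hsplit]
    refine neg_mem (Submodule.sum_mem _ fun ω hω => ?_)
    rw [horb ω (Finset.mem_erase.mp hω).1]
    exact sum_orbit_mem_smul P.isPGroup' O hpO σ (by rwa [← Nat.card_eq_fintype_card]) L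
      (fun x u hu => hLinv x u hu) (hfL _)
  have hLM : L ≤ M := by
    refine Submodule.span_le.mpr ?_
    rintro _ ⟨g, rfl⟩
    show ρ g w ∈ M
    refine Submodule.smul_induction_on hwM (fun c hc n hn => ?_) (fun a b ha hb => ?_)
    · rw [← IsScalarTower.algebraMap_smul ℂ c n, map_smul, IsScalarTower.algebraMap_smul]
      exact Submodule.smul_mem_smul hc (hLinv g n hn)
    · rw [map_add]; exact add_mem ha hb
  have hbot : L = ⊥ := Submodule.eq_bot_of_le_smul_of_le_jacobson_bot (maximalIdeal O) L
    (Submodule.fg_span (Set.finite_range _)) hLM (maximalIdeal_le_jacobson _)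
  have hwL : w ∈ L := Submodule.subset_span ⟨1, by simp⟩
  rwa [hbot, Submodule.mem_bot] at hwL

/-- If a representation has dimension at most the order of a trivial intersection Sylow subgroup
and a nonzero fixed vector, an overgroup of the normalizer fixes only what the group fixes. -/
theorem fixed_of_fixed_normalizer {G : Type*} [Group G] [Fintype G] {p : ℕ} [Fact p.Prime]
    (P : Sylow p G)
    (hTI : ∀ g : G, g ∉ Subgroup.normalizer ((P : Subgroup G) : Set G) →
      (P : Subgroup G) ⊓ (MulAut.conj g • (P : Subgroup G)) = ⊥)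
    (H : Subgroup G) (hH : Subgroup.normalizer ((P : Subgroup G) : Set G) ≤ H)
    {V : Type*} [AddCommGroup V] [Module ℂ V] [FiniteDimensional ℂ V]
    (ρ : Representation ℂ G V) (hdim : Module.finrank ℂ V ≤ Nat.card (P : Subgroup G))
    (h1 : ∃ v : V, v ≠ 0 ∧ ∀ g : G, ρ g v = v)
    {v : V} (hfix : ∀ h ∈ H, ρ h v = v) (g : G) : ρ g v = v := by
  classical
  let A : V →ₗ[ℂ] V := (Fintype.card G : ℂ)⁻¹ • ∑ x : G, ρ x
  have hA : ∀ u, A u = (Fintype.card G : ℂ)⁻¹ • ∑ x : G, ρ x u := fun u => by simp [A]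
  have hAfix : ∀ u, ∀ y : G, ρ y (A u) = A u := by
    intro u y
    rw [hA, map_smul, map_sum]
    congr 1
    refine Fintype.sum_equiv (Equiv.mulLeft y) _ _ fun x => ?_
    simp
  have hA1 : ∀ u, (∀ y : G, ρ y u = u) → A u = u := by
    intro u hu
    simp [hA, hu, ← Nat.cast_smul_eq_nsmul ℂ]
  have hAcomm : ∀ y u, A (ρ y u) = A u := by
    intro y u
    rw [hA, hA]
    congr 1
    refine Fintype.sum_equiv (Equiv.mulRight y) _ _ fun x => ?_
    simp
  let W : Subrepresentation ρ :=
    { toSubmodule := LinearMap.ker A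
      apply_mem_toSubmodule := fun y u hu => by
        rw [LinearMap.mem_ker] at hu ⊢
        rw [hAcomm, hu] }
  have hlt : Module.finrank ℂ W.toSubmodule < Nat.card (P : Subgroup G) := by
    refine lt_of_lt_of_le (Submodule.finrank_lt fun h => ?_) hdim
    obtain ⟨u, hu, hu'⟩ := h1
    have : u ∈ LinearMap.ker A := by rw [show LinearMap.ker A = ⊤ from h]; trivial
    exact hu ((hA1 u hu').symm.trans (LinearMap.mem_ker.mp this))
  have hmem : v - A v ∈ LinearMap.ker A := by
    rw [LinearMap.mem_ker, map_sub, hA1 _ (hAfix v), sub_self]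
  have h0 := eq_zero_of_fixed_of_sum_eq_zero P hTI H hH W.toRepresentation hlt
    (w := ⟨v - A v, hmem⟩) (fun h hh => Subtype.ext (by
      show ρ h (v - A v) = v - A v
      rw [map_sub, hfix h hh, hAfix])) (Subtype.ext (by
      have h2 := LinearMap.mem_ker.mp hmem
      rw [hA, smul_eq_zero] at h2
      rw [AddSubmonoidClass.coe_finsetSum]
      exact h2.resolve_left (inv_ne_zero (Nat.cast_ne_zero.mpr Fintype.card_ne_zero))))
  have : v = A v := sub_eq_zero.mp (congrArg Subtype.val h0)
  rw [this, hAfix]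

end Cfsg.Agent.H44
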