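import Mathlib
import Cfsg.Agent.H44.ClassTools
import Cfsg.Agent.H44.Codegree
import Cfsg.Agent.H68.SL2ByDegree
import Cfsg.Agent.S2299
import Cfsg.Agent.S2300
import Cfsg.Agent.H6.Basic
import Cfsg.Prelude.Def_DegreeGraph

/-!
# The degrees of `PSL₂`
-/

set_option autoImplicit false
open scoped ComplexConjugate
open Matrix

namespace Cfsg.Agent.H44

variable {F : Type*} [Field F] [Fintype F]

local notation "SL₂" => Matrix.SpecialLinearGroup (Fin 2) F
local notation "PSL₂" => Matrix.ProjectiveSpecialLinearGroup (Fin 2) F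

/-- Isomorphic groups have the same degrees. -/
theorem charDegrees_subset_of_equiv {A B : Type*} [Group A] [Finite A] [Group B] [Finite B]
    (e : A ≃* B) : Cfsg.charDegrees B ⊆ Cfsg.charDegrees A := by
  rintro _ ⟨χ, rfl⟩
  refine ⟨⟨_, isIrrCharacter_comp_surjective e.toMonoidHom e.surjective χ.2⟩, ?_⟩
  simp [Cfsg.charDegree]

/-- Isomorphic groups have the same degree set. -/
theorem charDegrees_eq_of_equiv {A B : Type*} [Group A] [Finite A] [Group B] [Finite B]
    (e : A ≃* B) : Cfsg.charDegrees A = Cfsg.charDegrees B :=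
  Set.Subset.antisymm (charDegrees_subset_of_equiv e.symm) (charDegrees_subset_of_equiv e)

/-- The Steinberg character is trivial on the centre. -/
theorem center_le_kerOf_steinberg [DecidableEq F] :
    Subgroup.center SL₂ ≤ kerOf (H68.sStI F) := by
  intro z hz
  rw [mem_kerOf]
  change H68.sSt z = H68.sSt (1 : SL₂)
  simp only [H68.sSt]
  congr 1
  rw [← H68.indFun_upper_eq_sPS]
  simp only [Cfsg.indFun]
  congr 1
  refine Finset.sum_congr rfl fun x _ => ?_
  have hx : x⁻¹ * z * x = z := by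
    rw [mul_assoc, ← Subgroup.mem_center_iff.mp hz x, inv_mul_cancel_left]
  have h10 : (z : Matrix (Fin 2) (Fin 2) F) 1 0 = 0 := (H6.mem_center_iff_isScal.mp hz).2.1
  have h00 : (z : Matrix (Fin 2) (Fin 2) F) 0 0 ≠ 0 := by
    intro h0
    have h1 := z.2
    rw [Matrix.det_fin_two, h0, h10, zero_mul, mul_zero, sub_zero] at h1
    exact zero_ne_one h1
  rw [hx, mul_one, inv_mul_cancel]
  simp only [Cfsg.extendByZero]
  have e1 := Subtype.val_injective.extend_apply
    (fun b : ((Cfsg.upperTriangularGL 2 F).comap SpecialLinearGroup.toGL) =>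
      (1 : MulChar F ℂ) (((b : SL₂) : Matrix (Fin 2) (Fin 2) F) 0 0)) 0
    ⟨z, (H68.sl2_mem_upper_iff z).mpr h10⟩
  have e2 := Subtype.val_injective.extend_apply
    (fun b : ((Cfsg.upperTriangularGL 2 F).comap SpecialLinearGroup.toGL) =>
      (1 : MulChar F ℂ) (((b : SL₂) : Matrix (Fin 2) (Fin 2) F) 0 0)) 0
    ⟨1, one_mem _⟩
  rw [e1, e2, MulChar.one_apply (Ne.isUnit h00), MulChar.one_apply]
  simp

/-- `PSL₂` has a character of degree `q`. -/
theorem card_mem_charDegrees_psl : Fintype.card F ∈ Cfsg.charDegrees PSL₂ := by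
  classical
  obtain ⟨ψ, hψ⟩ := exists_eq_inflate _ (H68.sStI F) center_le_kerOf_steinberg
  refine ⟨ψ, ?_⟩
  rw [← charDegree_inflate, hψ, ← Nat.cast_inj (R := ℂ), cast_charDegree]
  exact H68.sSt_one

/-- The degrees of `PSL₂` are degrees of `SL₂`. -/
theorem charDegrees_psl_subset : Cfsg.charDegrees PSL₂ ⊆ Cfsg.charDegrees SL₂ := by
  classical
  rintro _ ⟨ψ, rfl⟩
  exact ⟨inflate _ ψ, charDegree_inflate _ ψ⟩

/-- Only the Steinberg character has degree `q`. -/
theorem subsingleton_degree_card (ψ φ : Cfsg.IrrCharacter PSL₂)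
    (hψ : Cfsg.charDegree (ψ : PSL₂ → ℂ) = Fintype.card F)
    (hφ : Cfsg.charDegree (φ : PSL₂ → ℂ) = Fintype.card F) : ψ = φ := by
  classical
  refine inflate_injective (Subgroup.center SL₂) (Subtype.ext ?_)
  rw [H68.eq_sSt_of_degree (inflate _ ψ).2 (by rw [← cast_charDegree, charDegree_inflate, hψ]),
    H68.eq_sSt_of_degree (inflate _ φ).2 (by rw [← cast_charDegree, charDegree_inflate, hφ])]

/-- In odd characteristic the centre has two elements. -/
theorem card_center_of_odd (hF : ringChar F ≠ 2) : Nat.card (Subgroup.center SL₂) = 2 := by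
  classical
  have hne : (1 : SL₂) ≠ -1 := by
    intro h
    have h1 := congrArg (fun g : SL₂ => (g : Matrix (Fin 2) (Fin 2) F) 0 0) h
    simp at h1
    exact Ring.neg_one_ne_one_of_char_ne_two hF h1.symm
  have hset : ((Subgroup.center SL₂ : Subgroup SL₂) : Set SL₂) = {1, -1} := by
    ext g
    rw [SetLike.mem_coe, H6.mem_center_iff_isScal, H6.isScal_iff]
    rfl
  show Nat.card ((Subgroup.center SL₂ : Subgroup SL₂) : Set SL₂) = 2
  rw [hset, Nat.card_coe_set_eq, Set.ncard_pair hne]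

/-- The degree sets in odd characteristic. -/
theorem sl2_odd_degrees {k : ℕ} (hk : Fintype.card F = 2 * k + 1) (h3 : 3 ≤ k) :
    (∀ d ∈ Cfsg.charDegrees SL₂,
      d = 1 ∨ d = 2 * k + 1 ∨ d = 2 * k + 2 ∨ d = k + 1 ∨ d = k ∨ d = 2 * k) ∧
    2 * k + 2 ∈ Cfsg.charDegrees PSL₂ ∧ 2 * k ∈ Cfsg.charDegrees PSL₂ := by
  classical
  obtain ⟨k', n, ψ, hk', -, hF, hn, hψ⟩ := H68.exists_odd_setup (F := F) ⟨k, hk⟩
  obtain rfl : k = k' := by omega
  obtain ⟨H₁, H₂, C₁, C₂, C, hH, hC, -, -, hconj, hsum, -, -, -, -, dH₁, dH₂, dC₁, dC₂, hCall,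
    hCorth, hcases⟩ := H68.sl2_odd_cases hk hn hψ
  obtain ⟨d, hd⟩ : ∃ d : Cfsg.IrrCharacter SL₂ → ℕ,
      ∀ χ, d χ = Cfsg.charDegree (χ : SL₂ → ℂ) := ⟨_, fun _ => rfl⟩
  have hdeg : ∀ χ : Cfsg.IrrCharacter SL₂, ∀ j : ℕ, χ.1 1 = (j : ℂ) → d χ = j := by
    intro χ j h
    rw [hd, ← Nat.cast_inj (R := ℂ)]
    exact (cast_charDegree χ).trans h
  refine ⟨?_, ?_⟩
  · rintro _ ⟨χ, rfl⟩
    rcases hcases χ with ⟨-, e⟩ | ⟨-, e⟩ | ⟨-, e⟩ | ⟨-, e⟩ | ⟨-, e⟩ | ⟨-, e⟩ <;>
      [left; (right; left); (right; right; left); (right; right; right; left);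
       (right; right; right; right; left); (right; right; right; right; right)] <;>
      exact (hd χ).symm.trans (hdeg χ _ e)
  -- the multiplicity of the trivial character of the root subgroup
  set m : Cfsg.IrrCharacter SL₂ → ℂ := fun χ =>
    H68.fcoeff ψ (fun x => χ.1 (H68.sl2U x)) 0 with hm
  have hm0 : ∀ (χ : Cfsg.IrrCharacter SL₂),
      m χ = (Fintype.card F : ℂ)⁻¹ * ∑ x : F, χ.1 (H68.sl2U x) := by
    intro χ
    simp only [hm, H68.fcoeff, zero_mul, neg_zero, AddChar.map_zero_eq_one, mul_one]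
  have hq0 : (Fintype.card F : ℂ) ≠ 0 := Nat.cast_ne_zero.mpr Fintype.card_ne_zero
  have hsplit : ∀ f : F → ℂ, ∀ c : ℂ, (∀ x, x ≠ 0 → f x = c) →
      ∑ x : F, f x = f 0 + ((Fintype.card F : ℂ) - 1) * c := by
    intro f c hf
    rw [← Finset.add_sum_erase _ _ (Finset.mem_univ (0 : F)),
      Finset.sum_congr rfl fun x hx => hf x (Finset.ne_of_mem_erase hx), Finset.sum_const,
      Finset.card_erase_of_mem (Finset.mem_univ _), Finset.card_univ, nsmul_eq_mul,
      Nat.cast_sub Fintype.card_pos, Nat.cast_one]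
  have hmT : m (H68.sTriv F) = 1 := by
    rw [hm0]
    simp [H68.sTriv, hq0]
  have hmS : m (H68.sStI F) = 1 := by
    rw [hm0]
    change _ * ∑ x : F, H68.sSt (H68.sl2U x) = _
    rw [hsplit _ 0 fun x hx => H68.sSt_u hx, H68.sl2U_zero]
    rw [H68.sSt_one, mul_zero, add_zero, inv_mul_cancel₀ hq0]
  have hmP : ∀ χ ∈ H68.sPSSet F, m χ = 2 := by
    intro χ hχ
    obtain ⟨α, -, e⟩ := H68.mem_sPSSet.1 hχ
    rw [hm0, hsplit _ 1 fun x hx => by rw [e]; exact H68.sPS_u α hx, H68.sl2U_zero, e, H68.sPS_one]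
    field_simp
    ring
  have hmH : m H₁ = 1 ∧ m H₂ = 1 := by
    have he : m H₂ = m H₁ := by
      have h := H68.sl2_fcoeff_slConj H₁.1 ψ n 0
      rw [zero_mul] at h
      show H68.fcoeff ψ (fun x => H₂.1 (H68.sl2U x)) 0 = _
      rw [show (fun x => H₂.1 (H68.sl2U x)) = fun x => (H₁.1 ∘ H68.slConj n) (H68.sl2U x) from
        funext fun x => hconj _]
      exact h
    have h2 : m H₁ + m H₂ = 2 := by
      rw [hm0, hm0, ← mul_add, ← Finset.sum_add_distrib]
      rw [hsplit _ 1 fun x hx => by rw [← Pi.add_apply, ← hsum]; exact H68.sPS_u _ hx,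
        H68.sl2U_zero, ← Pi.add_apply, ← hsum, H68.sPS_one]
      field_simp
      ring
    rw [he] at h2
    exact ⟨by linear_combination h2 / 2, by rw [he]; linear_combination h2 / 2⟩
  have hmC : m C₁ = 0 ∧ m C₂ = 0 :=
    ⟨H68.sl2_fcoeff_zero_eq_zero (H26.irr_isClassFunction C₁) (fun α => (hCorth α).1) ψ,
      H68.sl2_fcoeff_zero_eq_zero (H26.irr_isClassFunction C₂) (fun α => (hCorth α).2) ψ⟩
  have hmR : ∀ χ ∈ C, m χ = 0 := fun χ hχ =>
    H68.sl2_fcoeff_zero_eq_zero (H26.irr_isClassFunction χ) (hCall χ hχ).2.2 ψ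
  -- the two identities
  set Z := Subgroup.center SL₂ with hZ
  set S := Finset.univ.filter (fun χ : Cfsg.IrrCharacter SL₂ => Z ≤ kerOf χ) with hS
  haveI : Fintype (SL₂ ⧸ Z) := Fintype.ofFinite _
  have hQ : (Nat.card (SL₂ ⧸ Z) : ℂ) = (2 * k + 1 : ℕ) * (2 * k * (k + 1) : ℕ) := by
    have h := Z.card_eq_card_quotient_mul_card_subgroup
    rw [card_center_of_odd hF, H6.card_sl2 rfl, hk] at h
    have h2 : (2 * k + 1) ^ 2 - 1 = 2 * (2 * k * (k + 1)) := by
      rw [Nat.sub_eq_iff_eq_add (Nat.one_le_pow _ _ (by omega))]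
      ring
    rw [h2] at h
    have h3 : Nat.card (SL₂ ⧸ Z) = (2 * k + 1) * (2 * k * (k + 1)) := by
      rw [← mul_assoc, mul_comm (2 * k + 1) 2, mul_assoc, mul_comm] at h
      exact (Nat.eq_of_mul_eq_mul_right two_pos h).symm
    rw [h3, Nat.cast_mul]
  have hI1 : ∑ χ ∈ S, (d χ : ℂ) * m χ = ((2 * k * (k + 1) : ℕ) : ℂ) := by
    have hcol : ∀ x : F, ∑ χ ∈ S, χ.1 (H68.sl2U x) * (d χ : ℂ) =
        if x = 0 then (Nat.card (SL₂ ⧸ Z) : ℂ) else 0 := by
      intro x
      rw [hS, sum_filter_le_kerOf Z]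
      have h := H26.column_orthogonality ((H68.sl2U x : SL₂) : SL₂ ⧸ Z) 1
      rw [show Subgroup.centralizer ({1} : Set (SL₂ ⧸ Z)) = ⊤ from eq_top_iff.mpr fun y _ =>
        Subgroup.mem_centralizer_singleton_iff.mpr (by simp), Subgroup.card_top] at h
      rw [Finset.sum_congr rfl fun η _ => show
        (inflate Z η).1 (H68.sl2U x) * (d (inflate Z η) : ℂ) =
          η.1 ((H68.sl2U x : SL₂) : SL₂ ⧸ Z) * conj (η.1 1) from ?_, h]
      · split_ifs with hx
        · rw [hx, H68.sl2U_zero, QuotientGroup.mk_one, H26.classIndicator,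
            if_pos (IsConj.refl 1), mul_one]
        · rw [H26.classIndicator, if_neg, mul_zero]
          intro hc
          rw [isConj_one_left, QuotientGroup.eq_one_iff, hZ, H6.mem_center_iff_isScal] at hc
          exact hx (by simpa using hc.1)
      · rw [hd, inflate_apply]
        simp only [charDegree_inflate]
        rw [← cast_charDegree η, Complex.conj_natCast]
    rw [Finset.sum_congr rfl fun χ _ => show (d χ : ℂ) * m χ =
      (Fintype.card F : ℂ)⁻¹ * ∑ x : F, χ.1 (H68.sl2U x) * (d χ : ℂ) from by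
        rw [hm0, ← Finset.sum_mul]; ring, ← Finset.mul_sum, Finset.sum_comm,
      Finset.sum_congr rfl fun x _ => hcol x, Finset.sum_ite_eq', if_pos (Finset.mem_univ _), hQ,
      ← hk, inv_mul_cancel_left₀ hq0]
  have hI2 : ∑ χ ∈ S, (d χ : ℂ) ^ 2 = ((2 * k + 1) * (2 * k * (k + 1)) : ℕ) := by
    rw [hS, sum_filter_le_kerOf Z, Nat.cast_mul, ← hQ, ← sum_charDegree_sq, Nat.cast_sum]
    refine Finset.sum_congr rfl fun η _ => ?_
    simp only [hd, charDegree_inflate, Nat.cast_pow]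
  -- natural multiplicities
  let mn : Cfsg.IrrCharacter SL₂ → ℕ := fun χ =>
    if χ = H68.sTriv F ∨ χ = H68.sStI F ∨ χ = H₁ ∨ χ = H₂ then 1
    else if χ ∈ H68.sPSSet F then 2 else 0
  have dT : d (H68.sTriv F) = 1 := hdeg _ _ (by rw [Nat.cast_one]; rfl)
  have dS : d (H68.sStI F) = 2 * k + 1 := hdeg _ _ (by
    show H68.sSt (1 : SL₂) = _
    rw [H68.sSt_one, hk])
  have eH₁ : d H₁ = k + 1 := hdeg _ _ dH₁
  have eH₂ : d H₂ = k + 1 := hdeg _ _ dH₂
  have eC₁ : d C₁ = k := hdeg _ _ dC₁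
  have eC₂ : d C₂ = k := hdeg _ _ dC₂
  have hmn : ∀ χ, m χ = (mn χ : ℂ) := by
    intro χ
    rcases hcases χ with ⟨h, e⟩ | ⟨h, e⟩ | ⟨h, e⟩ | ⟨h, e⟩ | ⟨h, e⟩ | ⟨h, e⟩ <;>
      have hde := hdeg χ _ e
    · simp [mn, h, hmT]
    · simp [mn, h, hmS]
    · have : ¬ (χ = H68.sTriv F ∨ χ = H68.sStI F ∨ χ = H₁ ∨ χ = H₂) := by
        rintro (rfl | rfl | rfl | rfl) <;> omega
      simp [mn, this, h, hmP χ h]
    · rcases h with rfl | rfl <;> simp [mn, hmH.1, hmH.2]
    · have h1 : ¬ (χ = H68.sTriv F ∨ χ = H68.sStI F ∨ χ = H₁ ∨ χ = H₂) := by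
        rintro (rfl | rfl | rfl | rfl) <;> omega
      have h2 : χ ∉ H68.sPSSet F := by
        intro hP
        obtain ⟨α, -, e'⟩ := H68.mem_sPSSet.1 hP
        rw [e', H68.sPS_one, hk] at e
        norm_cast at e
        omega
      rcases h with rfl | rfl <;> simp [mn, h1, h2, hmC.1, hmC.2]
    · have h1 : ¬ (χ = H68.sTriv F ∨ χ = H68.sStI F ∨ χ = H₁ ∨ χ = H₂) := by
        rintro (rfl | rfl | rfl | rfl) <;> omega
      have h2 : χ ∉ H68.sPSSet F := by
        intro hP
        obtain ⟨α, -, e'⟩ := H68.mem_sPSSet.1 hP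
        rw [e', H68.sPS_one, hk] at e
        norm_cast at e
        omega
      simp [mn, h1, h2, hmR χ h]
  have hI1' : ∑ χ ∈ S, d χ * mn χ = 2 * k * (k + 1) := by
    simp only [hmn] at hI1
    exact_mod_cast hI1
  have hI2' : ∑ χ ∈ S, d χ ^ 2 = (2 * k + 1) * (2 * k * (k + 1)) := by exact_mod_cast hI2
  have hback : ∀ χ ∈ S, d χ ∈ Cfsg.charDegrees PSL₂ := by
    intro χ hχ
    obtain ⟨η, hη⟩ := exists_eq_inflate Z χ (Finset.mem_filter.mp hχ).2
    refine ⟨η, ?_⟩
    show Cfsg.charDegree (η : SL₂ ⧸ Z → ℂ) = d χ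
    rw [hd, ← hη]
    exact (charDegree_inflate Z η).symm
  constructor
  · by_contra hno
    have hle : ∀ χ ∈ S, d χ * mn χ ≠ 0 →
        χ ∈ ({H68.sTriv F, H68.sStI F, H₁, H₂} : Finset (Cfsg.IrrCharacter SL₂)) := by
      intro χ hχ h0
      simp only [Finset.mem_insert, Finset.mem_singleton]
      by_contra hnot
      simp only [mn, if_neg hnot] at h0
      split_ifs at h0 with hP
      · rcases hcases χ with ⟨h, e⟩ | ⟨h, e⟩ | ⟨h, e⟩ | ⟨h, e⟩ | ⟨h, e⟩ | ⟨h, e⟩
        case inr.inr.inl => exact hno (hdeg χ _ e ▸ hback χ hχ)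
        all_goals
          obtain ⟨α, -, e'⟩ := H68.mem_sPSSet.1 hP
          rw [e', H68.sPS_one, hk] at e
          norm_cast at e
          omega
      · simp at h0
    have h1 : ∑ χ ∈ S, d χ * mn χ ≤
        ∑ χ ∈ ({H68.sTriv F, H68.sStI F, H₁, H₂} : Finset (Cfsg.IrrCharacter SL₂)), d χ * mn χ :=
      Finset.sum_le_sum_of_ne_zero hle
    have hbound : ∀ χ ∈ ({H68.sTriv F, H68.sStI F, H₁, H₂} : Finset (Cfsg.IrrCharacter SL₂)),
        d χ * mn χ = d χ := by
      intro χ hχ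
      simp only [Finset.mem_insert, Finset.mem_singleton] at hχ
      simp [mn, hχ]
    rw [hI1', Finset.sum_congr rfl hbound, Finset.sum_insert, Finset.sum_insert, Finset.sum_pair hH,
      dT, dS, eH₁, eH₂] at h1
    · nlinarith
    · simp only [Finset.mem_insert, Finset.mem_singleton]
      rintro (h | h) <;> have := congrArg d h <;> omega
    · simp only [Finset.mem_insert, Finset.mem_singleton]
      rintro (h | h | h) <;> have := congrArg d h <;> omega
  · by_contra hno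
    have hle : ∀ χ ∈ S, d χ ^ 2 ≤ (k + 1) * (d χ * mn χ) +
        ((if χ = H68.sStI F then (2 * k + 1) * k else 0) +
          ((if χ = C₁ then k ^ 2 else 0) + if χ = C₂ then k ^ 2 else 0)) := by
      intro χ hχ
      rcases hcases χ with ⟨h, e⟩ | ⟨h, e⟩ | ⟨h, e⟩ | ⟨h, e⟩ | ⟨h, e⟩ | ⟨h, e⟩ <;>
        have hde := hdeg χ _ e
      · have : mn χ = 1 := by simp [mn, h]
        rw [hde, this]
        exact le_trans (by omega) (Nat.le_add_right _ _)
      · have : mn χ = 1 := by simp [mn, h]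
        rw [if_pos h, hde, this]
        exact le_trans (le_of_eq (by ring)) (Nat.add_le_add_left (Nat.le_add_right _ _) _)
      · have : mn χ = 2 := by
          have h' : ¬ (χ = H68.sTriv F ∨ χ = H68.sStI F ∨ χ = H₁ ∨ χ = H₂) := by
            rintro (rfl | rfl | rfl | rfl) <;> omega
          simp [mn, h', h]
        rw [hde, this]
        exact le_trans (le_of_eq (by ring)) (Nat.le_add_right _ _)
      · have : mn χ = 1 := by rcases h with rfl | rfl <;> simp [mn]
        rw [hde, this]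
        exact le_trans (le_of_eq (by ring)) (Nat.le_add_right _ _)
      · rcases h with rfl | rfl
        · rw [if_pos rfl, hde]
          exact le_trans (Nat.le_add_right _ _) (le_trans (Nat.le_add_left _ _) (Nat.le_add_left _ _))
        · rw [if_pos rfl, hde]
          exact le_trans (Nat.le_add_left _ _) (le_trans (Nat.le_add_left _ _) (Nat.le_add_left _ _))
      · exact absurd (hde ▸ hback χ hχ) hno
    have h1 := Finset.sum_le_sum hle
    rw [hI2', Finset.sum_add_distrib, ← Finset.mul_sum, hI1', Finset.sum_add_distrib,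
      Finset.sum_add_distrib, Finset.sum_ite_eq', Finset.sum_ite_eq', Finset.sum_ite_eq'] at h1
    have a1 : (if H68.sStI F ∈ S then (2 * k + 1) * k else 0) ≤ (2 * k + 1) * k := by
      split_ifs <;> simp
    have a2 : (if C₁ ∈ S then k ^ 2 else 0) ≤ k ^ 2 := by split_ifs <;> simp
    have a3 : (if C₂ ∈ S then k ^ 2 else 0) ≤ k ^ 2 := by split_ifs <;> simp
    have h4 : 2 * k * (k * k) + 2 * k * k ≤ (2 * k + 1) * k + 2 * k ^ 2 := by nlinarith
    nlinarith

end Cfsg.Agent.H44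

namespace Cfsg.Agent.H44

variable {F : Type*} [Field F] [Fintype F]

local notation "SL₂" => Matrix.SpecialLinearGroup (Fin 2) F
local notation "PSL₂" => Matrix.ProjectiveSpecialLinearGroup (Fin 2) F

/-- In characteristic two the groups `SL₂` and `PSL₂` have the same degrees. -/
theorem charDegrees_psl_eq_of_char_two [CharP F 2] :
    Cfsg.charDegrees PSL₂ = Cfsg.charDegrees SL₂ := by
  refine Set.Subset.antisymm charDegrees_psl_subset ?_
  rintro _ ⟨χ, rfl⟩
  have hle : Subgroup.center SL₂ ≤ kerOf χ := by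
    intro z hz
    have h1 : z = 1 := by
      rcases H6.isScal_iff.mp (H6.mem_center_iff_isScal.mp hz) with rfl | rfl
      · rfl
      · refine H6.sl2_ext ?_ ?_ ?_ ?_ <;> simp [CharTwo.neg_eq]
    rw [h1]
    exact one_mem _
  obtain ⟨ψ, rfl⟩ := exists_eq_inflate _ χ hle
  exact ⟨ψ, (charDegree_inflate _ ψ).symm⟩

/-- The degree set of the even groups. -/
theorem sl2_even_degrees [CharP F 2] (h4 : 4 ≤ Fintype.card F) :
    (∀ d ∈ Cfsg.charDegrees SL₂,
      d = 1 ∨ d + 1 = Fintype.card F ∨ d = Fintype.card F ∨ d = Fintype.card F + 1) ∧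
    Fintype.card F - 1 ∈ Cfsg.charDegrees SL₂ ∧ Fintype.card F + 1 ∈ Cfsg.charDegrees SL₂ := by
  have h := S2300.result (F := F)
  obtain ⟨-, -, hp, hm⟩ := h.2 h4
  refine ⟨?_, ?_, ?_⟩
  · rintro _ ⟨χ, rfl⟩
    have hd := cast_charDegree χ
    rcases h.1 χ.1 χ.2 with e | e | e | e <;> rw [e] at hd
    · exact .inl (by exact_mod_cast hd)
    · refine .inr (.inl ?_)
      have : ((Cfsg.charDegree (χ : SL₂ → ℂ) + 1 : ℕ) : ℂ) = Fintype.card F := by
        push_cast
        rw [hd]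
        ring
      exact_mod_cast this
    · exact .inr (.inr (.inl (by exact_mod_cast hd)))
    · exact .inr (.inr (.inr (by exact_mod_cast hd)))
  · obtain ⟨χ, hχ⟩ := (Nat.card_pos_iff.mp (by rw [hm]; omega : 0 < Nat.card
      {χ : Cfsg.IrrCharacter SL₂ // (χ : SL₂ → ℂ) 1 = (Fintype.card F : ℂ) - 1})).1
    refine ⟨χ, ?_⟩
    rw [← Nat.cast_inj (R := ℂ), cast_charDegree, hχ, Nat.cast_sub (by omega), Nat.cast_one]
  · obtain ⟨χ, hχ⟩ := (Nat.card_pos_iff.mp (by rw [hp]; omega : 0 < Nat.card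
      {χ : Cfsg.IrrCharacter SL₂ // (χ : SL₂ → ℂ) 1 = (Fintype.card F : ℂ) + 1})).1
    refine ⟨χ, ?_⟩
    rw [← Nat.cast_inj (R := ℂ), cast_charDegree, hχ, Nat.cast_add, Nat.cast_one]

/-- A degree of `SL₂` divisible by the characteristic is `q`. -/
theorem eq_card_of_dvd_degree {p : ℕ} [Fact p.Prime] [CharP F p] {d : ℕ}
    (hd : d ∈ Cfsg.charDegrees SL₂) (hp : p ∣ d) : d = Fintype.card F := by
  obtain ⟨⟨a, ha⟩, hF⟩ := FiniteField.card F p
  have hpF : p ∣ Fintype.card F := hF.2 ▸ dvd_pow_self p ha.ne'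
  have hcop : ∀ m : ℕ, p ∣ m → Fintype.card F + 1 ≠ m ∧ m + 1 ≠ Fintype.card F := by
    intro m hm
    constructor <;> intro he
    · exact (Fact.out : p.Prime).not_dvd_one ((Nat.dvd_add_iff_right hpF).mpr (he ▸ hm))
    · exact (Fact.out : p.Prime).not_dvd_one ((Nat.dvd_add_iff_right hm).mpr (he.symm ▸ hpF))
  obtain ⟨χ, rfl⟩ := hd
  have hd := cast_charDegree χ
  set d := Cfsg.charDegree (χ : SL₂ → ℂ)
  have h1 : (d : ℂ) ≠ 1 := fun h => (Fact.out : p.Prime).not_dvd_one
    (by have : d = 1 := by exact_mod_cast h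
        rwa [this] at hp)
  rcases Nat.even_or_odd (Fintype.card F) with he | ho
  · haveI : CharP F 2 := by
      have h2 : p = 2 := by
        have h' := even_iff_two_dvd.mp he
        rw [hF.2] at h'
        exact ((Nat.prime_dvd_prime_iff_eq Nat.prime_two Fact.out).mp
          (Nat.prime_two.dvd_of_dvd_pow h')).symm
      subst h2; infer_instance
    rcases (S2300.result (F := F)).1 χ.1 χ.2 with e | e | e | e <;> rw [e] at hd
    · exact absurd hd h1
    · refine absurd ?_ (hcop d hp).2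
      have : ((d + 1 : ℕ) : ℂ) = Fintype.card F := by push_cast; rw [hd]; ring
      exact_mod_cast this
    · exact_mod_cast hd
    · exact absurd (by exact_mod_cast hd.symm) (hcop d hp).1
  · rcases (S2299.result ho).1 χ.1 χ.2 with e | e | e | e | e | e <;> rw [e] at hd
    · exact absurd hd h1
    · exact_mod_cast hd
    · exact absurd (by exact_mod_cast hd.symm) (hcop d hp).1
    · refine absurd ?_ (hcop d hp).2
      have : ((d + 1 : ℕ) : ℂ) = Fintype.card F := by push_cast; rw [hd]; ring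
      exact_mod_cast this
    · have h2 : d = (Fintype.card F + 1) / 2 := by exact_mod_cast hd
      obtain ⟨k, hk⟩ := ho
      exact absurd (show Fintype.card F + 1 = 2 * d by omega) (hcop _ (hp.mul_left 2)).1
    · have h2 : d = (Fintype.card F - 1) / 2 := by exact_mod_cast hd
      obtain ⟨k, hk⟩ := ho
      exact absurd (show 2 * d + 1 = Fintype.card F by omega) (hcop _ (hp.mul_left 2)).2

end Cfsg.Agent.H44
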