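import Cfsg.Agent.H44.PrimeDegreesExceptional
import Cfsg.Agent.H44.NormalDegrees

/-!
# Groups whose nonlinear degrees are prime are solvable
-/

set_option autoImplicit false

namespace Cfsg.Agent.H44.PrimeDeg

open scoped commutatorElement

universe u

theorem exists_derived_stable {G : Type u} [Group G] [Finite G] :
    ∃ n, derivedSeries G (n + 1) = derivedSeries G n := by
  by_contra h
  push Not at h
  have key : ∀ n, Nat.card (derivedSeries G n) + n ≤ Nat.card G := by
    intro n
    induction n with
    | zero => simp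
    | succ n ih =>
      have hle : derivedSeries G (n + 1) ≤ derivedSeries G n := by
        rw [derivedSeries_succ]; exact Subgroup.commutator_le_left _ _
      have hlt : Nat.card (derivedSeries G (n + 1)) < Nat.card (derivedSeries G n) :=
        lt_of_le_of_ne (Subgroup.card_le_of_le hle) fun hc =>
          h n (Subgroup.eq_of_le_of_card_ge hle hc.ge)
      omega
  have h1 := key (Nat.card G)
  have h2 : 0 < Nat.card (derivedSeries G (Nat.card G)) := Nat.card_pos
  omega

theorem isSolvable_of_prime_degrees {G : Type u} [Group G] [Finite G]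
    (hdeg : ∀ χ : Cfsg.IrrCharacter G,
      Cfsg.charDegree (χ : G → ℂ) = 1 ∨ (Cfsg.charDegree (χ : G → ℂ)).Prime) :
    Group.IsSolvable G := by
  classical
  haveI := Fintype.ofFinite G
  obtain ⟨n, hn⟩ := exists_derived_stable (G := G)
  by_cases hbot : derivedSeries G n = ⊥
  · exact (Group.isSolvable_def G).mpr ⟨n, hbot⟩
  exfalso
  set L := derivedSeries G n with hL
  haveI : L.Normal := derivedSeries_normal G n
  have hperf : ⁅L, L⁆ = L := by rw [hL, ← derivedSeries_succ]; exact hn
  have htop : commutator L = ⊤ := by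
    refine Subgroup.map_injective L.subtype_injective ?_
    rw [Subgroup.map_subtype_commutator, hperf, ← MonoidHom.range_eq_map, Subgroup.range_subtype]
  haveI : Nontrivial L := (Subgroup.nontrivial_iff_ne_bot L).mpr hbot
  obtain ⟨M, hM, hmax⟩ := (Set.toFinite {M : Subgroup L | M.Normal ∧ M ≠ ⊤}).exists_maximal
    ⟨⊥, inferInstance, bot_ne_top⟩
  obtain ⟨hMn, hMne⟩ := hM
  haveI := hMn
  haveI : Nontrivial (L ⧸ M) := by
    rw [← Finite.one_lt_card_iff_nontrivial]
    exact Subgroup.one_lt_index_of_ne_top hMne
  haveI : IsSimpleGroup (L ⧸ M) := ⟨fun H hH => by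
    set K := H.comap (QuotientGroup.mk' M) with hK
    have hMK : M ≤ K := fun m hm => by
      rw [hK, Subgroup.mem_comap, QuotientGroup.mk'_apply, (QuotientGroup.eq_one_iff m).mpr hm]
      exact H.one_mem
    have hHK : H = K.map (QuotientGroup.mk' M) :=
      (Subgroup.map_comap_eq_self_of_surjective (QuotientGroup.mk'_surjective M) H).symm
    by_cases hKtop : K = ⊤
    · exact Or.inr (by rw [hHK, hKtop, ← MonoidHom.range_eq_map,
        MonoidHom.range_eq_top.mpr (QuotientGroup.mk'_surjective M)])
    · refine Or.inl ?_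
      have hKM : K ≤ M := hmax ⟨inferInstance, hKtop⟩ hMK
      rw [hHK, Subgroup.map_eq_bot_iff, QuotientGroup.ker_mk']
      exact hKM⟩
  haveI := Fintype.ofFinite (L ⧸ M)
  haveI := Fintype.ofFinite L
  refine false_of_prime_degrees (G := L ⧸ M) (fun hc => ?_) fun ψ => ?_
  · refine hMne (eq_top_iff.mpr ?_)
    rw [← htop, commutator_def, Subgroup.commutator_le]
    intro a _ b _
    rw [← QuotientGroup.eq_one_iff, commutatorElement_def]
    simp only [QuotientGroup.mk_mul, QuotientGroup.mk_inv]
    rw [hc (a : L ⧸ M) b, mul_inv_cancel_right, mul_inv_cancel]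
  · obtain ⟨χ, hχ⟩ := exists_irr_over L (inflate M ψ)
    have h := degree_mul_index_inertia_dvd L χ (inflate M ψ) hχ
    rw [charDegree_inflate] at h
    have h' := (Dvd.intro_left _ rfl).trans h
    rcases hdeg χ with h1 | h1
    · exact Or.inl (Nat.dvd_one.mp (h1 ▸ h'))
    · rcases (Nat.dvd_prime h1).mp h' with h2 | h2
      · exact Or.inl h2
      · exact Or.inr (h2 ▸ h1)

end Cfsg.Agent.H44.PrimeDeg
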