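import Mathlib
import Cfsg.Agent.H44.Codegree
import Cfsg.Agent.H44.ClassTools
import Cfsg.Agent.H24.Extraspecial
import Cfsg.Agent.H26.CharLinear
import Cfsg.Agent.S0169

/-!
# Nilpotent groups with one irreducible degree divisible by `p`
-/

set_option autoImplicit false
open scoped ComplexConjugate commutatorElement

namespace Cfsg.Agent.H44

variable {G : Type*} [Group G] [Finite G]

/-- The product of a linear and an irreducible character is irreducible. -/
theorem isIrrCharacter_linear_mul (f : G →* ℂˣ) (χ : Cfsg.IrrCharacter G) :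
    Cfsg.IsIrrCharacter G fun g => (f g : ℂ) * χ.1 g := by
  haveI := Fintype.ofFinite G
  refine H26.isIrrCharacter_of_norm_one
    (H26.isCharacter_mul (H26.irr_isCharacter ⟨_, H26.isIrrCharacter_hom f⟩) (H26.irr_isCharacter χ)) ?_
  classical
  have h := H26.classInner_irr χ χ
  rw [if_pos rfl] at h
  rw [← h, Cfsg.classInner, Cfsg.classInner]
  congr 1
  refine Finset.sum_congr rfl fun g _ => ?_
  have hn : (f g : ℂ) * conj (f g : ℂ) = 1 := by
    rw [← H26.irr_inv ⟨_, H26.isIrrCharacter_hom f⟩ g]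
    simp [← Units.val_mul]
  simp only [map_mul]
  linear_combination (χ.1 g * conj (χ.1 g)) * hn

/-- Linear characters have absolute value one. -/
theorem norm_linear (f : G →* ℂˣ) (g : G) : ‖(f g : ℂ)‖ = 1 := by
  refine Complex.norm_eq_one_of_pow_eq_one (n := orderOf g) ?_ (orderOf_pos g).ne'
  rw [← Units.val_pow_eq_pow_val, ← map_pow, pow_orderOf_eq_one, map_one, Units.val_one]

/-- A centralizer order splits into the linear and the nonlinear part. -/
theorem card_centralizer_eq_index_add [Fintype G]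
    [DecidablePred fun χ : Cfsg.IrrCharacter G => (χ : G → ℂ) 1 = 1] (g : G) :
    (Nat.card (Subgroup.centralizer ({g} : Set G)) : ℝ) = (commutator G).index +
      ∑ χ ∈ Finset.univ.filter (fun χ : Cfsg.IrrCharacter G => ¬ (χ : G → ℂ) 1 = 1),
        ‖χ.1 g‖ ^ 2 := by
  rw [← sum_norm_sq_eq_card_centralizer g,
    ← Finset.sum_filter_add_sum_filter_not Finset.univ
      (fun χ : Cfsg.IrrCharacter G => (χ : G → ℂ) 1 = 1)]
  congr 1
  rw [← H26.card_linear_irr, Nat.card_eq_fintype_card, Fintype.card_subtype]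
  rw [Finset.sum_congr rfl fun χ hχ => ?_, Finset.sum_const, nsmul_eq_mul, mul_one]
  obtain ⟨f, hf⟩ := H26.exists_hom_of_isCharacter_one (H26.irr_isCharacter χ)
    (Finset.mem_filter.mp hχ).2
  rw [← hf, norm_linear, one_pow]

/-- In a `p`-group a degree is divisible by `p` exactly when the character is not linear. -/
theorem dvd_degree_iff_of_pGroup {p : ℕ} [hp : Fact p.Prime] (hG : IsPGroup p G)
    (χ : Cfsg.IrrCharacter G) : p ∣ Cfsg.charDegree (χ : G → ℂ) ↔ ¬ χ.1 1 = 1 := by
  obtain ⟨m, hm⟩ := hG.exists_card_eq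
  obtain ⟨j, -, hj⟩ := (Nat.dvd_prime_pow hp.out).mp (hm ▸ charDegree_dvd_card χ)
  rw [← cast_charDegree, hj]
  cases j with
  | zero => simp [hp.out.ne_one]
  | succ j =>
    refine iff_of_true (dvd_pow_self p j.succ_ne_zero) ?_
    rw [Nat.cast_eq_one]
    exact (Nat.one_lt_pow j.succ_ne_zero hp.out.one_lt).ne'

/-- A nilpotent group with one irreducible degree divisible by `p` is a `p`-group. -/
theorem isPGroup_of_unique [Group.IsNilpotent G] {p : ℕ} [hp : Fact p.Prime]
    (hone : Nat.card {χ : Cfsg.IrrCharacter G // p ∣ Cfsg.charDegree (χ : G → ℂ)} = 1) :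
    IsPGroup p G := by
  classical
  haveI : Subsingleton {χ : Cfsg.IrrCharacter G // p ∣ Cfsg.charDegree (χ : G → ℂ)} :=
    (Nat.card_eq_one_iff_unique.mp hone).1
  obtain ⟨χ₀, hχ₀⟩ : Nonempty {χ : Cfsg.IrrCharacter G // p ∣ Cfsg.charDegree (χ : G → ℂ)} :=
    (Nat.card_eq_one_iff_unique.mp hone).2
  obtain ⟨e⟩ := (Group.isNilpotent_of_finite_tfae (G := G)).out 0 4 |>.mp ‹_›
  have hpG : p ∈ (Nat.card G).primeFactors :=
    Nat.mem_primeFactors.mpr ⟨hp.out, hχ₀.trans (charDegree_dvd_card χ₀), Nat.card_pos.ne'⟩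
  rw [IsPGroup.iff_card]
  refine ⟨(Nat.card G).primeFactorsList.length, Nat.eq_prime_pow_of_unique_prime_dvd
    Nat.card_pos.ne' fun {q} hq hqG => ?_⟩
  by_contra hne
  haveI := Fact.mk hq
  have hqm : q ∈ (Nat.card G).primeFactors :=
    Nat.mem_primeFactors.mpr ⟨hq, hqG, Nat.card_pos.ne'⟩
  let P : Sylow p G := default
  let Q : Sylow q G := default
  let π : G →* (P : Subgroup G) :=
    (Pi.evalMonoidHom (fun S : Sylow p G => (S : Subgroup G)) P).comp
      ((Pi.evalMonoidHom (fun r : (Nat.card G).primeFactors => ∀ S : Sylow r G, (S : Subgroup G))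
        ⟨p, hpG⟩).comp e.symm.toMonoidHom)
  let τ : G →* (Q : Subgroup G) :=
    (Pi.evalMonoidHom (fun S : Sylow q G => (S : Subgroup G)) Q).comp
      ((Pi.evalMonoidHom (fun r : (Nat.card G).primeFactors => ∀ S : Sylow r G, (S : Subgroup G))
        ⟨q, hqm⟩).comp e.symm.toMonoidHom)
  have hπ : Function.Surjective π := fun y =>
    ⟨e (Pi.mulSingle ⟨p, hpG⟩ (Pi.mulSingle P y)), by simp [π]⟩
  have hτ : ∀ y : (Q : Subgroup G), ∃ x : G, π x = 1 ∧ τ x = y := fun y =>
    ⟨e (Pi.mulSingle ⟨q, hqm⟩ (Pi.mulSingle Q y)), by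
      simp [π, Pi.mulSingle_eq_of_ne (show (⟨p, hpG⟩ : (Nat.card G).primeFactors) ≠ ⟨q, hqm⟩ from
        fun h => hne (congrArg Subtype.val h).symm)], by simp [τ]⟩
  -- the `p`-part is not abelian
  obtain ⟨ψ, hψ⟩ : ∃ ψ : Cfsg.IrrCharacter (P : Subgroup G), ¬ ψ.1 1 = 1 := by
    by_contra hcon
    push Not at hcon
    have hab := H26.comm_iff_forall_irr_one.mpr hcon
    obtain ⟨n, ρ, hρ, he⟩ := χ₀.2
    haveI := hρ
    have h := S0169.result ρ (P : Subgroup G)
      (fun a ha b hb => congrArg Subtype.val (hab ⟨a, ha⟩ ⟨b, hb⟩))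
    rw [Module.finrank_fin_fun] at h
    have hd : Cfsg.charDegree (χ₀ : G → ℂ) = n := by simp [Cfsg.charDegree, ← he]
    rw [hd] at hχ₀
    exact P.not_dvd_index (hχ₀.trans h)
  let χ : Cfsg.IrrCharacter G := ⟨_, isIrrCharacter_comp_surjective π hπ ψ.2⟩
  have hpψ := (dvd_degree_iff_of_pGroup P.isPGroup' ψ).mpr hψ
  have hdeg : Cfsg.charDegree (χ : G → ℂ) = Cfsg.charDegree (ψ : ↥(P : Subgroup G) → ℂ) := by
    simp [Cfsg.charDegree, χ]
  -- a nontrivial linear character of the `q`-part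
  haveI : Nontrivial (Q : Subgroup G) := by
    rw [← Finite.one_lt_card_iff_nontrivial, Q.card_eq_multiplicity]
    exact Nat.one_lt_pow (Nat.pos_iff_ne_zero.mp
      (hq.factorization_pos_of_dvd Nat.card_pos.ne' hqG)) hq.one_lt
  have hidx : 1 < Nat.card {θ : Cfsg.IrrCharacter (Q : Subgroup G) //
      (θ : ↥(Q : Subgroup G) → ℂ) 1 = 1} := by
    rw [H26.card_linear_irr]
    haveI := Q.isPGroup'.isNilpotent
    refine Subgroup.one_lt_index_of_ne_top (IsSolvable.commutator_lt_top_of_nontrivial _).ne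
  rw [Finite.one_lt_card_iff_nontrivial] at hidx
  obtain ⟨θ, hθ⟩ := exists_ne (⟨H26.oneIrr _, H26.oneIrr_val 1⟩ :
    {θ : Cfsg.IrrCharacter (Q : Subgroup G) // (θ : ↥(Q : Subgroup G) → ℂ) 1 = 1})
  obtain ⟨f, hf⟩ := H26.exists_hom_of_isCharacter_one (H26.irr_isCharacter θ.1) θ.2
  obtain ⟨y, hy⟩ : ∃ y, f y ≠ 1 := by
    by_contra hcon
    push Not at hcon
    exact hθ (Subtype.ext (Subtype.ext (funext fun y => by
      rw [← hf, hcon, H26.oneIrr_val, Units.val_one])))
  let χ' : Cfsg.IrrCharacter G := ⟨_, isIrrCharacter_linear_mul (f.comp τ) χ⟩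
  have hdeg' : Cfsg.charDegree (χ' : G → ℂ) = Cfsg.charDegree (χ : G → ℂ) := by
    simp [Cfsg.charDegree, χ']
  have heq : χ' = χ := congrArg Subtype.val (Subsingleton.elim
    (⟨χ', by rw [hdeg', hdeg]; exact hpψ⟩ :
      {χ : Cfsg.IrrCharacter G // p ∣ Cfsg.charDegree (χ : G → ℂ)})
    ⟨χ, by rw [hdeg]; exact hpψ⟩)
  obtain ⟨x, hx1, hx2⟩ := hτ y
  have h := congrFun (congrArg Subtype.val heq) x
  change (f (τ x) : ℂ) * ψ.1 (π x) = ψ.1 (π x) at h
  rw [hx1, hx2] at h
  exact hy (Units.ext (mul_eq_right₀ (H26.irr_one_ne_zero ψ) |>.mp h))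

/-- A `p`-group with one nonlinear irreducible character is an extraspecial `2`-group. -/
theorem extraspecial_of_unique {p : ℕ} [hp : Fact p.Prime] (hG : IsPGroup p G)
    (hone : Nat.card {χ : Cfsg.IrrCharacter G // p ∣ Cfsg.charDegree (χ : G → ℂ)} = 1) :
    p = 2 ∧ Cfsg.IsExtraspecial 2 G := by
  classical
  haveI := Fintype.ofFinite G
  obtain ⟨⟨χ, hχp⟩⟩ := (Nat.card_eq_one_iff_unique.mp hone).2
  haveI : Subsingleton {χ : Cfsg.IrrCharacter G // p ∣ Cfsg.charDegree (χ : G → ℂ)} :=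
    (Nat.card_eq_one_iff_unique.mp hone).1
  have hfil : Finset.univ.filter (fun ψ : Cfsg.IrrCharacter G => ¬ (ψ : G → ℂ) 1 = 1) = {χ} := by
    ext ψ
    simp only [Finset.mem_filter, Finset.mem_univ, true_and, Finset.mem_singleton]
    refine ⟨fun h => ?_, fun h => h ▸ (dvd_degree_iff_of_pGroup hG χ).mp hχp⟩
    exact congrArg Subtype.val (Subsingleton.elim
      (⟨ψ, (dvd_degree_iff_of_pGroup hG ψ).mpr h⟩ :
        {χ : Cfsg.IrrCharacter G // p ∣ Cfsg.charDegree (χ : G → ℂ)}) ⟨χ, hχp⟩)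
  set d := Cfsg.charDegree (χ : G → ℂ) with hd
  set m := (commutator G).index with hm
  have hone' : Nat.card G = m + d ^ 2 := by
    have h := card_centralizer_eq_index_add (1 : G)
    rw [hfil, Finset.sum_singleton, ← cast_charDegree, Complex.norm_natCast] at h
    rw [show Subgroup.centralizer ({1} : Set G) = ⊤ from eq_top_iff.mpr fun x _ =>
      Subgroup.mem_centralizer_singleton_iff.mpr (by simp), Subgroup.card_top] at h
    exact_mod_cast h
  have hmul : Nat.card (commutator G) * m = Nat.card G := Subgroup.card_mul_index _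
  obtain ⟨i, hi⟩ := (IsPGroup.to_subgroup hG (commutator G)).exists_card_eq
  obtain ⟨n, hn⟩ := hG.exists_card_eq
  have hmpow : ∃ b, m = p ^ b := by
    obtain ⟨b, -, hb⟩ := (Nat.dvd_prime_pow hp.out).mp (hn ▸ Dvd.intro_left _ hmul : m ∣ p ^ n)
    exact ⟨b, hb⟩
  obtain ⟨b, hb⟩ := hmpow
  obtain ⟨a, -, ha⟩ := (Nat.dvd_prime_pow hp.out).mp (hn ▸ charDegree_dvd_card χ)
  have heq : (p ^ i - 1) * p ^ b = p ^ (2 * a) := by
    rw [← hi, ← hb, Nat.sub_mul, one_mul, hmul, hone', pow_mul', ← ha, hd]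
    exact Nat.add_sub_cancel_left m _
  have hi0 : i ≠ 0 := by
    rintro rfl
    simp only [pow_zero, Nat.sub_self, zero_mul] at heq
    exact (pow_ne_zero _ hp.out.ne_zero) heq.symm
  obtain ⟨c, -, hc⟩ := (Nat.dvd_prime_pow hp.out).mp (Dvd.intro _ heq : p ^ i - 1 ∣ p ^ (2 * a))
  have hi2 : p ^ i = 2 := by
    cases c with
    | zero => rw [pow_zero] at hc; omega
    | succ c =>
      exfalso
      have h1 : p ∣ p ^ i := dvd_pow_self p hi0
      have h2 : p ∣ p ^ i - 1 := hc ▸ dvd_pow_self p c.succ_ne_zero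
      have h3 := Nat.dvd_sub h1 h2
      rw [Nat.sub_sub_self (Nat.one_le_pow _ _ hp.out.pos)] at h3
      exact hp.out.not_dvd_one h3
  have hp2 : p = 2 :=
    (Nat.prime_dvd_prime_iff_eq hp.out Nat.prime_two).mp (hi2 ▸ dvd_pow_self p hi0)
  subst hp2
  refine ⟨rfl, ?_⟩
  have hc2 : Nat.card (commutator G) = 2 := hi.trans hi2
  have hd2 : d ^ 2 = m := by rw [hc2] at hmul; omega
  have hcle : commutator G ≤ Subgroup.center G := by
    intro z hz
    refine Subgroup.mem_center_iff.mpr fun g => ?_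
    haveI : Finite (commutator G) := inferInstance
    by_cases hz1 : z = 1
    · simp [hz1]
    · obtain ⟨u, v, huv, huniv⟩ := Nat.card_eq_two_iff.mp hc2
      have hconj : g * z * g⁻¹ ∈ commutator G := (inferInstance : (commutator G).Normal).conj_mem z hz g
      have key : ∀ w : commutator G, w ≠ 1 → ∀ w' : commutator G, w' ≠ 1 → w = w' := by
        intro w hw w' hw'
        have h1 : ∀ x : commutator G, x = u ∨ x = v := fun x => by
          have : x ∈ ({u, v} : Set (commutator G)) := huniv ▸ Set.mem_univ x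
          simpa using this
        rcases h1 w with rfl | rfl <;> rcases h1 w' with rfl | rfl <;>
          rcases h1 (1 : commutator G) with h | h <;> simp_all
      have h := key ⟨g * z * g⁻¹, hconj⟩ (fun h => hz1 (by simpa using congrArg Subtype.val h))
        ⟨z, hz⟩ (fun h => hz1 (congrArg Subtype.val h))
      exact mul_inv_eq_iff_eq_mul.mp (congrArg Subtype.val h)
  have hout : ∀ g : G, g ∉ commutator G → χ.1 g = 0 := by
    intro g hg
    by_contra hne
    obtain ⟨ψ, hψ1, hψ2⟩ : ∃ ψ : Cfsg.IrrCharacter G, ψ.1 1 = 1 ∧ g ∉ kerOf ψ := by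
      by_contra hcon
      push Not at hcon
      exact hg (mem_of_forall_kerOf (commutator G) fun ψ hψ =>
        hcon ψ ((irr_one_eq_one_iff ψ).mpr hψ))
    obtain ⟨f, hf⟩ := H26.exists_hom_of_isCharacter_one (H26.irr_isCharacter ψ) hψ1
    let χ' : Cfsg.IrrCharacter G := ⟨_, isIrrCharacter_linear_mul f χ⟩
    have hdeg' : Cfsg.charDegree (χ' : G → ℂ) = Cfsg.charDegree (χ : G → ℂ) := by
      simp [Cfsg.charDegree, χ']
    have heq : χ' = χ := congrArg Subtype.val (Subsingleton.elim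
      (⟨χ', by rw [hdeg']; exact hχp⟩ :
        {χ : Cfsg.IrrCharacter G // 2 ∣ Cfsg.charDegree (χ : G → ℂ)}) ⟨χ, hχp⟩)
    have h := mul_eq_right₀ hne |>.mp (congrFun (congrArg Subtype.val heq) g)
    exact hψ2 (mem_kerOf.mpr (by rw [← hf, h, hψ1]))
  have hZ : Subgroup.center G = commutator G := by
    refine le_antisymm (fun g hg => ?_) hcle
    by_contra hgc
    have h := card_centralizer_eq_index_add g
    rw [hfil, Finset.sum_singleton, hout g hgc] at h
    rw [show Subgroup.centralizer ({g} : Set G) = ⊤ from eq_top_iff.mpr fun x _ =>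
      Subgroup.mem_centralizer_singleton_iff.mpr (Subgroup.mem_center_iff.mp hg x),
      Subgroup.card_top] at h
    simp only [norm_zero, ne_eq, OfNat.ofNat_ne_zero, not_false_eq_true, zero_pow, add_zero] at h
    have : Nat.card G = m := by exact_mod_cast h
    have := charDegree_pos χ
    nlinarith
  have hcomm : ∀ x y : G, ⁅x, y⁆ ∈ Subgroup.center G := fun x y => hcle (by
    rw [commutator_def]
    exact Subgroup.commutator_mem_commutator (Subgroup.mem_top x) (Subgroup.mem_top y))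
  refine H24.isExtraspecial_of hG (hZ ▸ hc2) (fun htop => ?_) hcomm fun x => ?_
  · have : Nat.card G = 2 := by rw [← Subgroup.card_top, ← htop, hZ, hc2]
    have := charDegree_pos χ
    have := Nat.le_of_dvd ‹_› hχp
    nlinarith
  · refine Subgroup.mem_center_iff.mpr fun y => (commutatorElement_eq_one_iff_mul_comm.mp ?_).symm
    have hz : ⁅x, y⁆ ^ 2 = 1 := H24.pow_eq_one_of_card_eq hc2 (by
      rw [commutator_def]
      exact Subgroup.commutator_mem_commutator (Subgroup.mem_top x) (Subgroup.mem_top y))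
    rw [commutatorElement_eq_one_iff_mul_comm]
    have hc' := Subgroup.mem_center_iff.mp (hcomm x y)
    have h1 : x * y = ⁅x, y⁆ * (y * x) := by rw [commutatorElement_def]; group
    calc x ^ 2 * y = x * (x * y) := by rw [sq, mul_assoc]
      _ = x * (⁅x, y⁆ * (y * x)) := by rw [← h1]
      _ = ⁅x, y⁆ * (x * y) * x := by rw [← mul_assoc x, hc' x, mul_assoc, mul_assoc, mul_assoc]
      _ = ⁅x, y⁆ * (⁅x, y⁆ * (y * x)) * x := by rw [← h1]
      _ = y * x ^ 2 := by rw [← mul_assoc ⁅x, y⁆, ← sq, hz, one_mul, mul_assoc, ← sq]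

/-- An extraspecial `2`-group has one nonlinear irreducible character. -/
theorem unique_of_extraspecial (hE : Cfsg.IsExtraspecial 2 G) :
    Nat.card {χ : Cfsg.IrrCharacter G // 2 ∣ Cfsg.charDegree (χ : G → ℂ)} = 1 := by
  classical
  haveI := Fintype.ofFinite G
  haveI : Fact (Nat.Prime 2) := ⟨Nat.prime_two⟩
  have hG := hE.1.1
  have hc2 : Nat.card (commutator G) = 2 := by rw [hE.1.2.2]; exact hE.2
  set S := Finset.univ.filter (fun ψ : Cfsg.IrrCharacter G => ¬ (ψ : G → ℂ) 1 = 1) with hS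
  set m := (commutator G).index with hm
  have hmG : Nat.card G = 2 * m := by rw [← hc2, hm, Subgroup.card_mul_index]
  have hvan : ∀ g : G, g ∉ Subgroup.center G → ∀ χ ∈ S, χ.1 g = 0 := by
    intro g hg χ hχ
    have h := card_centralizer_eq_index_add g
    have hlt : Nat.card (Subgroup.centralizer ({g} : Set G)) ≤ m := by
      have hne : Subgroup.centralizer ({g} : Set G) ≠ ⊤ := fun ht => hg
        (Subgroup.mem_center_iff.mpr fun x => by
          have := ht ▸ Subgroup.mem_top x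
          exact Subgroup.mem_centralizer_singleton_iff.mp this)
      have h2 : 2 ≤ (Subgroup.centralizer ({g} : Set G)).index :=
        Subgroup.one_lt_index_of_ne_top hne
      have h3 := (Subgroup.centralizer ({g} : Set G)).card_mul_index
      nlinarith
    have hle : ∑ ψ ∈ S, ‖ψ.1 g‖ ^ 2 ≤ 0 := by
      have : (Nat.card (Subgroup.centralizer ({g} : Set G)) : ℝ) ≤ m := by exact_mod_cast hlt
      rw [h] at this
      linarith
    have h0 := (Finset.sum_eq_zero_iff_of_nonneg fun ψ _ => by positivity).mp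
      (le_antisymm hle (Finset.sum_nonneg fun ψ _ => by positivity)) χ hχ
    simpa using h0
  have hcen : ∀ g ∈ Subgroup.center G, ∀ χ ∈ S, ‖χ.1 g‖ = ‖χ.1 1‖ := by
    intro g hg χ hχ
    have h := card_centralizer_eq_index_add g
    have h1 := card_centralizer_eq_index_add (1 : G)
    rw [show Subgroup.centralizer ({1} : Set G) = Subgroup.centralizer ({g} : Set G) from by
      ext x
      simp [Subgroup.mem_centralizer_singleton_iff, (Subgroup.mem_center_iff.mp hg x).symm], h]
      at h1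
    have heq : ∑ ψ ∈ S, (‖ψ.1 1‖ ^ 2 - ‖ψ.1 g‖ ^ 2) = 0 := by
      rw [Finset.sum_sub_distrib]
      linarith
    have hnn : ∀ ψ ∈ S, 0 ≤ ‖ψ.1 1‖ ^ 2 - ‖ψ.1 g‖ ^ 2 := fun ψ _ => by
      have : ‖ψ.1 g‖ ≤ ‖ψ.1 1‖ := by
        rw [← cast_charDegree, Complex.norm_natCast]
        have := norm_irr_le ψ g
        simpa [← cast_charDegree] using this
      nlinarith [norm_nonneg (ψ.1 g)]
    have := (Finset.sum_eq_zero_iff_of_nonneg hnn).mp heq χ hχ
    exact (sq_eq_sq₀ (norm_nonneg _) (norm_nonneg _)).mp (by linarith)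
  have hdeg : ∀ χ ∈ S, 2 * Cfsg.charDegree (χ : G → ℂ) ^ 2 = Nat.card G := by
    intro χ hχ
    have h := H26.classInner_irr χ χ
    rw [if_pos rfl, Cfsg.classInner, inv_mul_eq_iff_eq_mul₀
      (Nat.cast_ne_zero.mpr Nat.card_pos.ne'), mul_one] at h
    have h2 := congrArg Complex.re h
    rw [Complex.re_sum, Complex.natCast_re] at h2
    rw [Finset.sum_congr rfl fun g _ => show (χ.1 g * conj (χ.1 g)).re =
        if g ∈ Subgroup.center G then (Cfsg.charDegree (χ : G → ℂ) : ℝ) ^ 2 else 0 from ?_,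
      Finset.sum_ite, Finset.sum_const_zero, add_zero, Finset.sum_const,
      ← Fintype.card_subtype, ← Nat.card_eq_fintype_card] at h2
    · rw [show Nat.card {g // g ∈ Subgroup.center G} = 2 from hE.2, nsmul_eq_mul] at h2
      exact_mod_cast h2
    · rw [Complex.mul_conj', ← Complex.ofReal_pow, Complex.ofReal_re]
      split_ifs with hg
      · rw [hcen g hg χ hχ, ← cast_charDegree, Complex.norm_natCast]
      · rw [hvan g hg χ hχ, norm_zero]; norm_num
  have hcard : S.card = 1 := by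
    have h1 := card_centralizer_eq_index_add (1 : G)
    rw [show Subgroup.centralizer ({1} : Set G) = ⊤ from eq_top_iff.mpr fun x _ =>
      Subgroup.mem_centralizer_singleton_iff.mpr (by simp), Subgroup.card_top] at h1
    rw [Finset.sum_congr rfl fun χ hχ => show ‖χ.1 1‖ ^ 2 = (m : ℝ) from ?_,
      Finset.sum_const, nsmul_eq_mul, hmG] at h1
    · have hmpos : (0 : ℝ) < m := by
        exact_mod_cast Nat.pos_of_ne_zero (hm ▸ Subgroup.index_ne_zero_of_finite)
      push_cast at h1
      have : (S.card : ℝ) = 1 := by nlinarith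
      exact_mod_cast this
    · have := hdeg χ hχ
      rw [← cast_charDegree, Complex.norm_natCast]
      have : Cfsg.charDegree (χ : G → ℂ) ^ 2 = m := by omega
      exact_mod_cast this
  rw [← hcard, Nat.card_eq_fintype_card, Fintype.card_subtype]
  congr 1
  exact Finset.filter_congr fun χ _ => dvd_degree_iff_of_pGroup hG χ

end Cfsg.Agent.H44
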