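import Mathlib
import Cfsg.Agent.H44.ItoMichler
import Cfsg.Agent.H44.UniqueDivisibleDegree

/-!
# Classes and characters of a normal subgroup under a coprime `p`-group
-/

set_option autoImplicit false
open scoped ComplexConjugate Pointwise

namespace Cfsg.Agent.H44

/-- The sum of an invariant function under a fixed-point-free permutation of prime order is
divisible by the prime. -/
theorem exists_eq_prime_mul_sum {X : Type*} [Fintype X] {p : ℕ} [hp : Fact p.Prime]
    (σ : Equiv.Perm X) (hσ : σ ^ p = 1) (hfix : ∀ x, σ x ≠ x) (f : X → ℂ)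
    (hf : ∀ x, f (σ x) = f x) (hint : ∀ x, IsIntegral ℤ (f x)) :
    ∃ c : ℂ, IsIntegral ℤ c ∧ ∑ x, f x = (p : ℂ) * c := by
  classical
  set H := Subgroup.zpowers σ with hH
  have hinv : ∀ a : H, ∀ x : X, f (a • x) = f x := by
    rintro ⟨a, ha⟩ x
    obtain ⟨k, rfl⟩ := Subgroup.mem_zpowers_iff.mp ha
    show f ((σ ^ k) x) = f x
    have key : ∀ k : ℕ, ∀ x, f ((σ ^ k) x) = f x := by
      intro k
      induction k with
      | zero => simp
      | succ k ihk => intro x; rw [pow_succ', Equiv.Perm.mul_apply, hf, ihk]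
    obtain ⟨k, rfl | rfl⟩ := Int.eq_nat_or_neg k
    · rw [zpow_natCast, key]
    · rw [zpow_neg, zpow_natCast]
      conv_rhs => rw [← (show (σ ^ k) ((σ ^ k)⁻¹ x) = x by simp), key]
  let π : X → MulAction.orbitRel.Quotient H X := Quotient.mk''
  refine ⟨∑ q : MulAction.orbitRel.Quotient H X, f q.out, IsIntegral.sum _ fun q _ => hint _, ?_⟩
  rw [Finset.mul_sum, ← Finset.sum_fiberwise Finset.univ π f]
  refine Finset.sum_congr rfl fun q _ => ?_
  have hcard : (Finset.univ.filter fun x => π x = q).card = p := by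
    have horb : Nat.card (MulAction.orbit H q.out) = p := by
      have hdvd : Nat.card (MulAction.orbit H q.out) ∣ p := by
        refine (Dvd.intro (Nat.card (MulAction.stabilizer H q.out)) ?_).trans
          (orderOf_dvd_of_pow_eq_one hσ)
        rw [← Nat.card_zpowers, ← hH,
          ← Nat.card_congr (MulAction.orbitProdStabilizerEquivGroup H q.out), Nat.card_prod]
      refine ((Nat.dvd_prime hp.out).mp hdvd).resolve_left fun h1 => hfix q.out ?_
      haveI := (Nat.card_eq_one_iff_unique.mp h1).1
      exact congrArg Subtype.val (Subsingleton.elim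
        (⟨σ q.out, ⟨⟨σ, Subgroup.mem_zpowers σ⟩, rfl⟩⟩ : MulAction.orbit H q.out)
        ⟨q.out, MulAction.mem_orbit_self _⟩)
    rw [← horb, Nat.card_eq_fintype_card, ← Set.toFinset_card]
    congr 1
    ext x
    rw [Finset.mem_filter, Set.mem_toFinset, ← MulAction.orbitRel_apply,
      ← Quotient.eq'' (s₁ := MulAction.orbitRel H X), Quotient.out_eq']
    exact ⟨fun h => h.2, fun h => ⟨Finset.mem_univ _, h⟩⟩
  rw [Finset.sum_congr rfl fun x hx => show f x = f q.out from ?_, Finset.sum_const, hcard,
    nsmul_eq_mul]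
  have h : π x = π q.out := (Finset.mem_filter.mp hx).2.trans (Quotient.out_eq' q).symm
  obtain ⟨a, ha⟩ := MulAction.orbitRel_apply.mp (Quotient.eq''.mp h)
  rw [← ha]
  exact hinv a q.out

/-- An irreducible character has algebraic integer values. -/
theorem isIntegral_irr {G : Type*} [Group G] [Finite G] (χ : Cfsg.IrrCharacter G) (g : G) :
    IsIntegral ℤ (χ.1 g) := by
  obtain ⟨n, ρ, -, e⟩ := χ.2
  rw [← e]
  exact H25.isIntegral_char ρ g

/-- A class fixed by a coprime `p`-subgroup contains a fixed element. -/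
theorem exists_fixed_of_class_fixed {G : Type*} [Group G] [Finite G] {p : ℕ} [Fact p.Prime]
    (N : Subgroup G) [N.Normal] (hcop : (Nat.card N).Coprime p) (v : G) {a : ℕ}
    (hv : v ^ p ^ a = 1) (m : N) (hm : IsConj m (MulAut.conjNormal v m)) :
    ∃ c : N, IsConj m c ∧ Commute (c : G) v := by
  classical
  have hVp : IsPGroup p (Subgroup.zpowers v) := IsPGroup.of_card
    (n := ((Nat.dvd_prime_pow Fact.out).mp (orderOf_dvd_of_pow_eq_one hv)).choose)
    (by rw [Nat.card_zpowers]
        exact ((Nat.dvd_prime_pow Fact.out).mp (orderOf_dvd_of_pow_eq_one hv)).choose_spec.2)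
  let X := {c : N // IsConj m c}
  have hcls : ∀ w ∈ Subgroup.zpowers v, ∀ c : X, IsConj m ((MulAut.conjNormal w : MulAut N) c.1) := by
    intro w hw
    obtain ⟨k, rfl⟩ := Subgroup.mem_zpowers_iff.mp hw
    have key : ∀ k : ℕ, IsConj m ((MulAut.conjNormal (v ^ k) : MulAut N) m) := by
      intro k
      induction k with
      | zero => rw [pow_zero, map_one, MulAut.one_apply]
      | succ k ihk =>
        rw [pow_succ', map_mul]
        exact hm.trans ((MulAut.conjNormal v : MulAut N).toMonoidHom.map_isConj ihk)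
    intro c
    obtain ⟨j, rfl | rfl⟩ := Int.eq_nat_or_neg k
    · rw [zpow_natCast]
      exact (key j).trans ((MulAut.conjNormal (v ^ j) : MulAut N).toMonoidHom.map_isConj c.2)
    · have h := key j
      have h' := (MulAut.conjNormal (v ^ (-(j : ℤ))) : MulAut N).toMonoidHom.map_isConj h
      rw [MulEquiv.coe_toMonoidHom, ← MulAut.mul_apply, ← map_mul, zpow_neg, zpow_natCast,
        inv_mul_cancel, map_one, MulAut.one_apply] at h'
      rw [zpow_neg, zpow_natCast]
      exact (h'.symm).trans ((MulAut.conjNormal ((v ^ j)⁻¹) : MulAut N).toMonoidHom.map_isConj c.2)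
  letI : MulAction (Subgroup.zpowers v) X :=
    { smul := fun w c => ⟨(MulAut.conjNormal (w : G) : MulAut N) c.1, hcls w w.2 c⟩
      one_smul := fun c => Subtype.ext (by
        show (MulAut.conjNormal ((1 : Subgroup.zpowers v) : G) : MulAut N) c.1 = c.1
        simp)
      mul_smul := fun a b c => Subtype.ext (by
        show (MulAut.conjNormal ((a * b : Subgroup.zpowers v) : G) : MulAut N) c.1 =
          (MulAut.conjNormal (a : G) : MulAut N) ((MulAut.conjNormal (b : G) : MulAut N) c.1)
        simp) }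
  have hnd : ¬ p ∣ Nat.card X := by
    intro hd
    have h1 : Nat.card X ∣ Nat.card N := Dvd.intro _ (card_isConj_mul_card_centralizer m)
    exact (Fact.out : p.Prime).coprime_iff_not_dvd.mp hcop.symm (hd.trans h1)
  obtain ⟨c, hc⟩ := hVp.nonempty_fixed_point_of_prime_not_dvd_card X hnd
  refine ⟨c.1, c.2, ?_⟩
  have h := congrArg (fun y : X => ((y.1 : N) : G)) (hc ⟨v, Subgroup.mem_zpowers v⟩)
  change v * ((c.1 : N) : G) * v⁻¹ = ((c.1 : N) : G) at h
  exact (mul_inv_eq_iff_eq_mul.mp h).symm

end Cfsg.Agent.H44
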