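import Cfsg.Agent.H94.Prod.Setup
import Cfsg.Agent.H94.SubgroupFusion
import Cfsg.Agent.H94.PPowerIndex
import Cfsg.Agent.H93.Normal

/-!
Conjugations in the local group of the product at `W` pull back to maps of the product, by Alperin's theorem in
the fusion system of the local group.
-/

set_option autoImplicit false
set_option linter.unusedSectionVars false
set_option linter.unusedVariables false

universe u

namespace Cfsg.Agent.H44.LocalBack

open Cfsg Cfsg.FusionSystem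
open Cfsg.Agent.H93 (Mor)
open Cfsg.Agent.H94.Prod (Local Gen sys)

variable {Ω : Type u} [Group Ω] {S T R W : Subgroup Ω} {F : FusionSystem S} {E : FusionSystem T} {p : ℕ}
  (Λ : Local p F E R W)

/-- The injection of `N_R(W)` into the local group. -/
def hom : ↥(normalizerIn R W) →* Λ.G :=
  MonoidHom.mk' (fun x => Λ.τ x) fun x y => Λ.map_mul x x.2 y y.2

/-- The preimage in `N_R(W)` of a subgroup of the local group. -/
def pre (A : Subgroup Λ.G) : Subgroup Ω := (A.comap (hom Λ)).map (normalizerIn R W).subtype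

theorem mem_pre {A : Subgroup Λ.G} {x : Ω} : x ∈ pre Λ A ↔ x ∈ normalizerIn R W ∧ Λ.τ x ∈ A := by
  constructor
  · rintro ⟨y, hy, rfl⟩
    exact ⟨y.2, hy⟩
  · rintro ⟨h1, h2⟩
    exact ⟨⟨x, h1⟩, h2, rfl⟩

/-- The image of a subgroup of `N_R(W)` in the local group. -/
def img (V : Subgroup Ω) : Subgroup Λ.G := (V.subgroupOf (normalizerIn R W)).map (hom Λ)

theorem mem_img {V : Subgroup Ω} (hV : V ≤ normalizerIn R W) {y : Λ.G} :
    y ∈ img Λ V ↔ ∃ x ∈ V, Λ.τ x = y := by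
  constructor
  · rintro ⟨x, hx, rfl⟩
    exact ⟨x, hx, rfl⟩
  · rintro ⟨x, hx, rfl⟩
    exact ⟨⟨x, hV hx⟩, hx, rfl⟩

theorem tau_mem_Q {x : Ω} (hx : x ∈ normalizerIn R W) : Λ.τ x ∈ Λ.Q := (Λ.mem_Q _).2 ⟨x, hx, rfl⟩

theorem img_le_Q (V : Subgroup Ω) : img Λ V ≤ Λ.Q := by
  rintro _ ⟨x, -, rfl⟩
  exact tau_mem_Q Λ x.2

theorem tau_inv {x : Ω} (hx : x ∈ normalizerIn R W) : Λ.τ x⁻¹ = (Λ.τ x)⁻¹ :=
  map_inv (hom Λ) ⟨x, hx⟩

/-- The image of `W` is normal in the local fusion system. -/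
theorem isNormal_img (hWN : W ≤ normalizerIn R W) :
    (fusionSystemOfSubgroup Λ.L Λ.Q Λ.le).IsNormal (img Λ W) := by
  have hWQ := img_le_Q Λ W
  refine ⟨hWQ, fun P φ hφ => ?_⟩
  obtain ⟨hPQ, hφQ, g, hg, hge⟩ := hφ
  have hle : ∀ g ∈ Λ.L, ∀ y ∈ img Λ W, g * y * g⁻¹ ∈ img Λ W := by
    intro g hg y hy
    obtain ⟨w, hw, rfl⟩ := (mem_img Λ hWN).1 hy
    obtain ⟨w', hw', e⟩ := Λ.norm g hg w hw
    exact (mem_img Λ hWN).2 ⟨w', hw', e⟩
  have hsup : P ⊔ img Λ W ≤ Λ.Q.comap (MulAut.conj g).toMonoidHom := by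
    refine sup_le (fun x hx => ?_) fun y hy => hWQ (hle g hg y hy)
    show g * x * g⁻¹ ∈ Λ.Q
    rw [← hge ⟨x, hx⟩]
    exact hφQ _
  refine ⟨conjHom (P ⊔ img Λ W) g, ⟨sup_le hPQ hWQ, fun x => hsup x.2, g, hg, fun x => rfl⟩,
    fun x => (hge x).symm, ?_⟩
  ext y
  constructor
  · rintro ⟨x, hx, rfl⟩
    exact hle g hg _ hx
  · intro hy
    have h := hle g⁻¹ (inv_mem hg) y hy
    refine ⟨⟨_, Subgroup.mem_sup_right h⟩, h, ?_⟩
    show g * (g⁻¹ * y * g⁻¹⁻¹) * g⁻¹ = y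
    group

/-- Conjugation by an element of the local group carries a subgroup between `W` and `N_R(W)` to one. -/
theorem exists_image (hWN : W ≤ normalizerIn R W) {V : Subgroup Ω} (hWV : W ≤ V) (hV : V ≤ normalizerIn R W)
    {g : Λ.G} (hg : g ∈ Λ.L) (hQ : ∀ x ∈ V, g * Λ.τ x * g⁻¹ ∈ Λ.Q) :
    ∃ (V1 : Subgroup Ω) (f1 : Ω → Ω), W ≤ V1 ∧ V1 ≤ normalizerIn R W ∧ Λ.Rel g V f1 ∧
      (∀ x ∈ V, f1 x ∈ V1) ∧ ∀ y ∈ V1, ∃ x ∈ V, f1 x = y := by
  classical
  let f1 : Ω → Ω := fun x =>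
    if h : ∃ y ∈ normalizerIn R W, Λ.τ y = g * Λ.τ x * g⁻¹ then h.choose else x
  have hf : ∀ x ∈ V, f1 x ∈ normalizerIn R W ∧ Λ.τ (f1 x) = g * Λ.τ x * g⁻¹ := by
    intro x hx
    have h := (Λ.mem_Q _).1 (hQ x hx)
    simp only [f1, dif_pos h]
    exact h.choose_spec
  refine ⟨pre Λ ((img Λ V).map (MulAut.conj g).toMonoidHom), f1, fun w hw => ?_,
    fun y hy => ((mem_pre Λ).1 hy).1, fun x hx => (hf x hx).2, fun x hx => ?_, fun y hy => ?_⟩
  · obtain ⟨w', hw', he⟩ := Λ.norm g⁻¹ (inv_mem hg) w hw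
    refine (mem_pre Λ).2 ⟨hWN hw, Λ.τ w', (mem_img Λ hV).2 ⟨w', hWV hw', rfl⟩, ?_⟩
    show g * Λ.τ w' * g⁻¹ = Λ.τ w
    rw [he]
    group
  · exact (mem_pre Λ).2 ⟨(hf x hx).1, Λ.τ x, (mem_img Λ hV).2 ⟨x, hx, rfl⟩, (hf x hx).2.symm⟩
  · obtain ⟨hy1, z, hz, he⟩ := (mem_pre Λ).1 hy
    obtain ⟨x, hx, rfl⟩ := (mem_img Λ hV).1 hz
    exact ⟨x, hx, Λ.injOn _ (hf x hx).1 _ hy1 ((hf x hx).2.trans he)⟩

variable [Finite S] [Fact p.Prime]

/-- A map of the product induced by conjugation in the local group. -/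
theorem mor_of_rel (hS : IsPGroup p S) {hRS : R ≤ S} (hWT : W ≤ T) (hTR : T ≤ R) (Λ : Local p F E R W)
    {P P2 : Subgroup Ω} {f : Ω → Ω} {g : Λ.G} (hWP : W ≤ P) (hP : P ≤ normalizerIn R W)
    (hP2 : P2 ≤ normalizerIn R W) (hg : g ∈ Λ.L) (hrel : Λ.Rel g P f) (hmem : ∀ x ∈ P, f x ∈ P2)
    (hsurj : ∀ y ∈ P2, ∃ x ∈ P, f x = y) : Mor (sys p F E R hRS) P P2 f := by
  classical
  let D := sys p F E R hRS
  let N := normalizerIn R W
  have hWN : W ≤ N := hWP.trans hP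
  have hNR : N ≤ R := fun x hx => hx.1
  obtain ⟨Sy, hSy⟩ := Λ.sylow
  have hQp : IsPGroup p Λ.Q :=
    (hSy ▸ Sy.isPGroup').of_equiv (Subgroup.subgroupOfEquivOfLe Λ.le)
  have hsat := H94.fusionSystemOfSubgroup_isSaturated (p := p) Λ.le Λ.sylow
  let FL := fusionSystemOfSubgroup Λ.L Λ.Q Λ.le
  let C : ∀ Pb : Subgroup Λ.G, (Pb →* Λ.G) → Prop := fun Pb φ =>
    ∀ (V V2 : Subgroup Ω) (f : Ω → Ω), W ≤ V → V ≤ N → V2 ≤ N →
      (∀ x ∈ V, ∃ h : Λ.τ x ∈ Pb, Λ.τ (f x) = φ ⟨Λ.τ x, h⟩) →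
      (∀ x ∈ V, f x ∈ V2) → (∀ y ∈ V2, ∃ x ∈ V, f x = y) → Mor D V V2 f
  have key : ∀ (Pb : Subgroup Λ.G) (φ : Pb →* Λ.G), φ ∈ FL.Hom Pb → C Pb φ := by
    intro Pb φ hφ
    refine H94.alperin_induction hQp hsat C ?_ ?_ ?_ hφ
    · intro P R' h φ _ hC V V2 f hWV hV hV2 hval
      refine hC V V2 f hWV hV hV2 fun x hx => ?_
      obtain ⟨h', he⟩ := hval x hx
      exact ⟨h h', he⟩
    · intro P Q φ ψ hφ hψ hC1 hC2 hPQ V V2 f hWV hV hV2 hval hm hs
      obtain ⟨-, hφQ, g1, hg1, hge1⟩ := hφ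
      obtain ⟨-, hψQ, g2, hg2, hge2⟩ := hψ
      have hQ1 : ∀ x ∈ V, g1 * Λ.τ x * g1⁻¹ ∈ Λ.Q := by
        intro x hx
        obtain ⟨h', -⟩ := hval x hx
        rw [← hge1 ⟨_, h'⟩]
        exact hφQ _
      obtain ⟨V1, f1, hWV1, hV1, hrel1, hm1, hs1⟩ := exists_image Λ hWN hWV hV hg1 hQ1
      have hmor1 : Mor D V V1 f1 := by
        refine hC1 V V1 f1 hWV hV hV1 (fun x hx => ?_) hm1 hs1
        obtain ⟨h', -⟩ := hval x hx
        exact ⟨h', by rw [hrel1 x hx, hge1]⟩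
      have hmemQ : ∀ y ∈ V1, Λ.τ y ∈ Q := by
        intro y hy
        obtain ⟨x, hx, rfl⟩ := hs1 y hy
        obtain ⟨h', -⟩ := hval x hx
        rw [hrel1 x hx, ← hge1 ⟨_, h'⟩]
        exact hPQ _
      have hQ2 : ∀ y ∈ V1, g2 * Λ.τ y * g2⁻¹ ∈ Λ.Q := fun y hy => by
        rw [← hge2 ⟨_, hmemQ y hy⟩]
        exact hψQ _
      obtain ⟨V1', f2, -, hV1', hrel2, hm2, hs2⟩ := exists_image Λ hWN hWV1 hV1 hg2 hQ2
      have hmor2 : Mor D V1 V1' f2 :=
        hC2 V1 V1' f2 hWV1 hV1 hV1' (fun y hy => ⟨hmemQ y hy, by rw [hrel2 y hy, hge2]⟩) hm2 hs2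
      have e : ∀ x ∈ V, f2 (f1 x) = f x := by
        intro x hx
        refine Λ.injOn _ (hV1' (hm2 _ (hm1 x hx))) _ (hV2 (hm x hx)) ?_
        obtain ⟨h', he⟩ := hval x hx
        rw [he, hrel2 _ (hm1 x hx), hrel1 x hx]
        show _ = ψ _
        rw [hge2]
        show _ = g2 * φ _ * g2⁻¹
        rw [hge1]
      have h3 := (hmor2.comp hmor1).congr e
      obtain rfl : V1' = V2 := by
        ext y
        refine ⟨fun hy => ?_, fun hy => ?_⟩
        · obtain ⟨x, hx, rfl⟩ := h3.surj hy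
          exact hm x hx
        · obtain ⟨x, hx, rfl⟩ := hs y hy
          exact h3.map_mem hx
      exact h3
    · intro U hU hUc hUr α hα
      have hWU : img Λ W ≤ U := H93.IsNormal.le_centric_radical hQp (isNormal_img Λ hWN) hUc hUr
      have hUQ : U ≤ Λ.Q := hU.1
      let U0 := pre Λ U
      have hU0N : U0 ≤ N := fun x hx => ((mem_pre Λ).1 hx).1
      have hU0R : U0 ≤ R := hU0N.trans hNR
      have hWU0 : W ≤ U0 := fun w hw =>
        (mem_pre Λ).2 ⟨hWN hw, hWU ((mem_img Λ hWN).2 ⟨w, hw, rfl⟩)⟩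
      have hbij : Function.Bijective (MonoidHom.mk' (fun x : U0 => (⟨Λ.τ x, ((mem_pre Λ).1 x.2).2⟩ : U))
          (fun x y => Subtype.ext (Λ.map_mul x (hU0N x.2) y (hU0N y.2)))) := by
        refine ⟨fun x y h => Subtype.ext (Λ.injOn x (hU0N x.2) y (hU0N y.2) (congrArg Subtype.val h)),
          fun y => ?_⟩
        obtain ⟨x, hx, he⟩ := (Λ.mem_Q _).1 (hUQ y.2)
        exact ⟨⟨x, (mem_pre Λ).2 ⟨hx, by rw [he]; exact y.2⟩⟩, Subtype.ext he⟩
      let e := MulEquiv.ofBijective _ hbij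
      have he : ∀ x : U0, ((e x : U) : Λ.G) = Λ.τ x := fun x => rfl
      let c : MulAut U →* MulAut U0 := (MulAut.congr e.symm).toMonoidHom
      have hc : ∀ (γ : MulAut U) (x : U0), Λ.τ ((c γ x : U0) : Ω) = ((γ (e x) : U) : Λ.G) := by
        intro γ x
        rw [← he]
        show ((e (e.symm (γ (e.symm.symm x))) : U) : Λ.G) = _
        rw [MulEquiv.apply_symm_apply]
        rfl
      have hM : ∀ γ ∈ (FL.autGroup U), c γ ∈ D.autGroup U0 := by
        obtain ⟨hA, -⟩ := H94.fullyNormalized_spec hQp hsat hU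
        intro γ hγ
        obtain ⟨k, hk, b, hb, rfl⟩ := H94.exists_pResidual_mul_of_fullyAutomized hA hγ
        rw [map_mul]
        refine mul_mem ?_ ?_
        · obtain ⟨κ, hκ, rfl⟩ := hk
          suffices h : pResidual p (FL.autGroup U) ≤
              ((D.autGroup U0).comap c).subgroupOf (FL.autGroup U) from Subgroup.mem_subgroupOf.1 (h hκ)
          refine (Subgroup.closure_le _).2 fun κ hκ => ?_
          show c (κ : MulAut U) ∈ D.autGroup U0
          obtain ⟨-, -, g0, hg0, hge⟩ := (H96.mem_autGroup FL hUQ).1 κ.2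
          have hpow : ∀ (n : ℕ) (y : U), ((((κ : MulAut U) ^ n) y : U) : Λ.G) = g0 ^ n * (y : Λ.G) * (g0 ^ n)⁻¹ := by
            intro n
            induction n with
            | zero => intro y; simp
            | succ n ih =>
              intro y
              rw [pow_succ', MulAut.mul_apply]
              refine (hge (((κ : MulAut U) ^ n) y)).trans ?_
              rw [ih, pow_succ']
              group
          obtain ⟨k, m, hm, hord⟩ := Nat.exists_eq_pow_mul_and_not_dvd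
            (isOfFinOrder_of_finite g0).orderOf_pos.ne' p (Fact.out : p.Prime).ne_one
          have hκ' : (orderOf (κ : MulAut U)).Coprime p := by rw [Subgroup.orderOf_coe]; exact hκ
          obtain ⟨r, hr⟩ : ∃ r : ℕ, ((κ : MulAut U) ^ p ^ k) ^ r = κ :=
            exists_pow_eq_self_of_coprime (Nat.Coprime.pow_left k (Nat.coprime_comm.1 hκ'))
          have hco : (orderOf ((g0 ^ p ^ k) ^ r)).Coprime p := by
            refine Nat.Coprime.coprime_dvd_left (orderOf_dvd_of_pow_eq_one (n := m) ?_)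
              ((Fact.out : p.Prime).coprime_iff_not_dvd.2 hm).symm
            rw [← pow_mul, ← pow_mul, show p ^ k * (r * m) = p ^ k * m * r by ring, pow_mul, ← hord,
              pow_orderOf_eq_one, one_pow]
          have hgen : Gen p F E R U0 (c (κ : MulAut U)) :=
            Λ.back U0 hU0N hWU0 _ (Λ.L.pow_mem (Λ.L.pow_mem hg0 _) r) ?_ _ fun x => by
              rw [hc, ← pow_mul]
              conv_lhs => rw [← hr, ← pow_mul]
              rw [hpow, he]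
          · exact hgen.mem_autGroup
          · convert hco using 0
        · obtain ⟨s, hs, hse⟩ := H96.mem_autInducedBy.1 hb
          obtain ⟨r, hr, rfl⟩ := (Λ.mem_Q s).1 hs
          refine (H96.mem_autGroup D hU0R).2 (H96.mem_congr D (D.conj_mem hU0R (hNR hr)) fun x => ?_)
          show ((c b x : U0) : Ω) = r * (x : Ω) * r⁻¹
          refine (Λ.injOn _ (N.mul_mem (N.mul_mem hr (hU0N x.2)) (N.inv_mem hr)) _ (hU0N (c b x).2) ?_).symm
          rw [hc, Λ.map_mul _ (N.mul_mem hr (hU0N x.2)) _ (N.inv_mem hr), Λ.map_mul _ hr _ (hU0N x.2),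
            tau_inv Λ hr]
          exact ((hse (e x)).trans (by rw [he])).symm
      intro V V2 f hWV hV hV2 hval hm hs
      obtain ⟨fa, hfa, hfae⟩ := H93.exists_mor_of_aut hU0R (hM α hα)
      have hVU : V ≤ U0 := fun x hx => (mem_pre Λ).2 ⟨hV hx, (hval x hx).1⟩
      have ef : ∀ x ∈ V, fa x = f x := by
        intro x hx
        rw [show fa x = _ from hfae ⟨x, hVU hx⟩]
        refine Λ.injOn _ (hU0N (c α ⟨x, hVU hx⟩).2) _ (hV2 (hm x hx)) ?_
        obtain ⟨h', hx'⟩ := hval x hx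
        rw [hc, hx']
        rfl
      refine (hfa.restrict_eq hVU (fun x hx => by rw [ef x hx]; exact hm x hx) fun y hy => ?_).congr ef
      obtain ⟨x, hx, rfl⟩ := hs y hy
      exact ⟨x, hx, ef x hx⟩
  have hφ : conjHom (img Λ P) g ∈ FL.Hom (img Λ P) := by
    refine ⟨img_le_Q Λ P, fun y => ?_, g, hg, fun y => rfl⟩
    obtain ⟨x, hx, he⟩ := (mem_img Λ hP).1 y.2
    show g * (y : Λ.G) * g⁻¹ ∈ Λ.Q
    rw [← he, ← hrel x hx]
    exact tau_mem_Q Λ (hP2 (hmem x hx))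
  exact key _ _ hφ P P2 f hWP hP hP2 (fun x hx => ⟨(mem_img Λ hP).2 ⟨x, hx, rfl⟩, hrel x hx⟩) hmem hsurj

end Cfsg.Agent.H44.LocalBack
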