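import Cfsg.Agent.H44.PrimeDegreesSimple
import Cfsg.Agent.H38.Linear

/-!
# The exceptional characters at a self-centralising subgroup of prime order

Differences of nontrivial linear characters of `P` induce to norm two, and all their constituents
share one degree; every other nonvanishing irreducible character is constant on `P - 1`.
-/

set_option autoImplicit false
open scoped ComplexConjugate

namespace Cfsg.Agent.H44.PrimeDeg

variable {G : Type*} [Group G] [Fintype G]

/-- Conjugation pull-back on functions of a subgroup, zero where it leaves the subgroup. -/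
noncomputable def cj (P : Subgroup G) (g : G) (φ : P → ℂ) : P → ℂ :=
  fun y => Cfsg.extendByZero P φ (g⁻¹ * y * g)

theorem restrict_indFun (P : Subgroup G) (φ : P → ℂ) (y : P) :
    Cfsg.indFun P φ y = (Nat.card P : ℂ)⁻¹ * ∑ g : G, cj P g φ y := rfl

theorem cj_cj (P : Subgroup G) (g h : G) (hg : g ∈ Subgroup.normalizer (P : Set G)) (φ : P → ℂ) :
    cj P g (cj P h φ) = cj P (g * h) φ := by
  funext y
  have hm : g⁻¹ * y * g ∈ P := by
    have := (Subgroup.mem_normalizer_iff.mp ((Subgroup.normalizer (P : Set G)).inv_mem hg) y).mp y.2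
    simpa using this
  show Cfsg.extendByZero P (cj P h φ) (g⁻¹ * y * g) = _
  rw [H25.extendByZero_of_mem P _ hm]
  show Cfsg.extendByZero P φ (h⁻¹ * (g⁻¹ * y * g) * h) = Cfsg.extendByZero P φ _
  congr 1
  group

theorem cj_one (P : Subgroup G) (φ : P → ℂ) : cj P 1 φ = φ := funext fun y => by
  show Cfsg.extendByZero P φ ((1 : G)⁻¹ * y * 1) = φ y
  rw [inv_one, one_mul, mul_one, H25.extendByZero_of_mem P φ y.2]

variable [IsSimpleGroup G] (hna : ¬ ∀ a b : G, a * b = b * a)
  (hdeg : ∀ χ : Cfsg.IrrCharacter G,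
    Cfsg.charDegree (χ : G → ℂ) = 1 ∨ (Cfsg.charDegree (χ : G → ℂ)).Prime)
include hna hdeg

/-- If `p` is the largest degree, the nonprincipal characters that do not vanish at an element of
order `p` share one degree, unless `p = 3` and some degree is `2`. -/
theorem exists_common_degree {p : ℕ} [Fact p.Prime] {χ₀ : Cfsg.IrrCharacter G}
    (hdeg₀ : Cfsg.charDegree (χ₀ : G → ℂ) = p)
    (hmax : ∀ χ : Cfsg.IrrCharacter G, Cfsg.charDegree (χ : G → ℂ) ≤ p)
    (h23 : ∀ χ : Cfsg.IrrCharacter G, p = 3 → Cfsg.charDegree (χ : G → ℂ) ≠ 2)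
    {x : G} (hx : orderOf x = p) :
    ∃ q : ℕ, q ≠ 1 ∧ ∀ χ : Cfsg.IrrCharacter G, χ ≠ H26.oneIrr G → χ.1 x ≠ 0 →
      Cfsg.charDegree (χ : G → ℂ) = q := by
  classical
  have hp := (Fact.out : p.Prime)
  set P := Subgroup.zpowers x with hPdef
  haveI := Fintype.ofFinite P
  have hcardP : Nat.card P = p := by rw [hPdef, Nat.card_zpowers, hx]
  have hab : ∀ a b : P, a * b = b * a := fun a b => by
    obtain ⟨i, hi⟩ := Subgroup.mem_zpowers_iff.mp a.2
    obtain ⟨j, hj⟩ := Subgroup.mem_zpowers_iff.mp b.2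
    refine Subtype.ext ?_
    show (a : G) * b = b * a
    rw [← hi, ← hj, ← zpow_add, ← zpow_add, add_comm]
  -- `P` is a TI subgroup with self-centralising elements
  have hgen : ∀ y : P, y ≠ 1 → Subgroup.zpowers (y : G) = P := fun y hy => by
    refine Subgroup.eq_of_le_of_card_ge (Subgroup.zpowers_le.mpr y.2) ?_
    rw [hcardP, Nat.card_zpowers]
    have h1 : orderOf (y : G) ∣ p := hcardP ▸ Subgroup.orderOf_dvd_natCard P y.2
    rcases (Nat.dvd_prime hp).mp h1 with h | h
    · exact absurd (Subtype.ext (orderOf_eq_one_iff.mp h)) hy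
    · exact h.ge
  set NS := Finset.univ.filter fun g : G => g ∈ Subgroup.normalizer (P : Set G) with hNS
  have hout : ∀ (φ : P → ℂ), φ 1 = 0 → ∀ g ∉ NS, ∀ y : P, cj P g φ y = 0 := by
    intro φ hφ g hg y
    by_cases hm : g⁻¹ * y * g ∈ P
    · show Cfsg.extendByZero P φ _ = 0
      rw [H25.extendByZero_of_mem P _ hm]
      by_cases hy : y = 1
      · subst hy
        convert hφ
        simp
      exfalso
      apply hg
      rw [hNS, Finset.mem_filter]
      refine ⟨Finset.mem_univ _, ?_⟩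
      have hy' : (⟨g⁻¹ * y * g, hm⟩ : P) ≠ 1 := fun h => hy (Subtype.ext (by
        have := congrArg (fun t : P => g * (t : G) * g⁻¹) h
        simpa [mul_assoc] using this))
      have hmap : P.map (MulAut.conj g⁻¹).toMonoidHom = P := by
        conv_lhs => rw [← hgen y hy]
        rw [MonoidHom.map_zpowers]
        exact (congrArg Subgroup.zpowers (by simp)).trans (hgen _ hy')
      refine (Subgroup.normalizer (P : Set G)).inv_mem_iff.mp ?_
      rw [Subgroup.mem_normalizer_iff]
      intro h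
      constructor
      · intro hh
        rw [← hmap]
        exact ⟨h, hh, by simp⟩
      · intro hh
        rw [← hmap] at hh
        obtain ⟨k, hk, hk'⟩ := hh
        have : k = h := (MulAut.conj g⁻¹).injective (by simpa using hk')
        exact this ▸ hk
    · exact H25.extendByZero_of_notMem P φ hm
  -- the linear characters of `P`
  have hlin : ∀ ρ : Cfsg.IrrCharacter P, ρ.1 1 = 1 := fun ρ => by
    rw [← cast_charDegree ρ, degree_eq_one_of_comm hab ρ, Nat.cast_one]
  have hhom : ∀ ρ : Cfsg.IrrCharacter P, ∃ f : P →* ℂˣ, ρ.1 = fun y => (f y : ℂ) := fun ρ =>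
    H38.exists_hom_of_linear (H26.irr_isCharacter ρ) (hlin ρ)
  have hcjirr : ∀ g ∈ NS, ∀ ρ : Cfsg.IrrCharacter P, Cfsg.IsIrrCharacter P (cj P g ρ.1) := by
    intro g hg ρ
    obtain ⟨f, hf⟩ := hhom ρ
    have hm : ∀ y : P, g⁻¹ * y * g ∈ P := fun y => by
      have := (Subgroup.mem_normalizer_iff.mp ((Subgroup.normalizer (P : Set G)).inv_mem
        (Finset.mem_filter.mp hg).2) y).mp y.2
      simpa using this
    let c : P →* P :=
      { toFun := fun y => ⟨g⁻¹ * y * g, hm y⟩
        map_one' := Subtype.ext (by simp)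
        map_mul' := fun a b => Subtype.ext (by simp [mul_assoc]) }
    have : cj P g ρ.1 = fun y => ((f.comp c) y : ℂ) := funext fun y => by
      show Cfsg.extendByZero P ρ.1 _ = _
      rw [H25.extendByZero_of_mem P _ (hm y), hf]
      rfl
    rw [this]
    exact H26.isIrrCharacter_hom _
  -- counting conjugators
  let n : Cfsg.IrrCharacter P → Cfsg.IrrCharacter P → ℕ := fun a c =>
    (NS.filter fun g => cj P g c.1 = a.1).card
  have hinner : ∀ a c : Cfsg.IrrCharacter P,
      ∑ g ∈ NS, Cfsg.classInner a.1 (cj P g c.1) = (n a c : ℂ) := by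
    intro a c
    rw [Finset.sum_congr rfl fun g hg => H27.classInner_irr_eq_ite a.2 (hcjirr g hg c),
      Finset.sum_boole]
    exact congrArg Nat.cast (congrArg Finset.card (Finset.filter_congr fun g _ => eq_comm))
  have hind : ∀ (a b c d : Cfsg.IrrCharacter P),
      Cfsg.classInner (Cfsg.indFun P (a.1 - b.1)) (Cfsg.indFun P (c.1 - d.1)) =
        (p : ℂ)⁻¹ * ((n a c : ℂ) - n b c - ((n a d : ℂ) - n b d)) := by
    intro a b c d
    rw [H25.classInner_indFun_left P _ _ (H25.isClassFunction_indFun P _)]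
    have hres : (fun y : P => Cfsg.indFun P (c.1 - d.1) y) =
        (p : ℂ)⁻¹ • ∑ g ∈ NS, (cj P g c.1 - cj P g d.1) := by
      funext y
      rw [restrict_indFun, hcardP, Pi.smul_apply, Finset.sum_apply, smul_eq_mul,
        ← Finset.sum_subset (Finset.subset_univ NS)
          (fun g _ hg => hout _ (by simp [hlin]) g hg y)]
      congr 1
      refine Finset.sum_congr rfl fun g hg => ?_
      show Cfsg.extendByZero P (c.1 - d.1) _ = Cfsg.extendByZero P c.1 _ - Cfsg.extendByZero P d.1 _
      by_cases hm : g⁻¹ * y * g ∈ P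
      · rw [H25.extendByZero_of_mem P _ hm, H25.extendByZero_of_mem P _ hm,
          H25.extendByZero_of_mem P _ hm]
        rfl
      · rw [H25.extendByZero_of_notMem P _ hm, H25.extendByZero_of_notMem P _ hm,
          H25.extendByZero_of_notMem P _ hm, sub_zero]
    rw [hres, H26.classInner_smul_right, map_inv₀, Complex.conj_natCast,
      H26.classInner_sum_right]
    congr 1
    rw [← hinner a c, ← hinner b c, ← hinner a d, ← hinner b d]
    simp only [← Finset.sum_sub_distrib]
    refine Finset.sum_congr rfl fun g _ => ?_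
    simp only [H26.classInner_sub_left, H26.classInner_sub_right]
  -- the stabiliser of a nontrivial character is `P`
  have hnat : ∀ a : Cfsg.IrrCharacter P, a ≠ H26.oneIrr P → n a a = p := by
    intro a ha
    obtain ⟨f, hf⟩ := hhom a
    have hf1 : ∀ y : P, f y = 1 → y = 1 := by
      intro y hy
      by_contra hy1
      refine ha (Subtype.ext (funext fun z => ?_))
      obtain ⟨i, hi⟩ := Subgroup.mem_zpowers_iff.mp ((hgen y hy1).symm ▸ z.2 :
        (z : G) ∈ Subgroup.zpowers (y : G))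
      have hz : z = y ^ i := Subtype.ext (by simpa using hi.symm)
      simp only [hf, H26.oneIrr_val, hz, map_zpow, hy, one_zpow, Units.val_one]
    have hset : (NS.filter fun g => cj P g a.1 = a.1) = Finset.univ.filter (fun g => g ∈ P) := by
      ext g
      simp only [hNS, Finset.mem_filter, Finset.mem_univ, true_and]
      constructor
      · rintro ⟨hg, hfix⟩
        have hxP : x ∈ P := Subgroup.mem_zpowers x
        have hm : g⁻¹ * x * g ∈ P := by
          have := (Subgroup.mem_normalizer_iff.mp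
            ((Subgroup.normalizer (P : Set G)).inv_mem hg) x).mp hxP
          simpa using this
        have h1 := congrFun hfix ⟨x, hxP⟩
        change Cfsg.extendByZero P a.1 (g⁻¹ * x * g) = _ at h1
        rw [H25.extendByZero_of_mem P _ hm, hf] at h1
        have h2 := Units.val_injective h1
        have h3 := hf1 (⟨g⁻¹ * x * g, hm⟩ * ⟨x, hxP⟩⁻¹) (by rw [map_mul, map_inv, h2, mul_inv_cancel])
        have h4 : g⁻¹ * x * g = x := by
          have := congrArg Subtype.val h3
          simpa [mul_inv_eq_one] using this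
        have h5 : g ∈ Subgroup.centralizer ({x} : Set G) := by
          rw [Subgroup.mem_centralizer_singleton_iff]
          calc g * x = g * (g⁻¹ * x * g) := by rw [h4]
            _ = x * g := by group
        rw [centralizer_eq hna hdeg₀ hx] at h5
        exact h5
      · intro hg
        refine ⟨Subgroup.le_normalizer hg, funext fun y => ?_⟩
        have hy : g⁻¹ * y * g = y := by
          have := congrArg Subtype.val (hab ⟨g, hg⟩ y)
          simp only [Subgroup.coe_mul] at this
          rw [mul_assoc, ← this, inv_mul_cancel_left]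
        show Cfsg.extendByZero P a.1 (g⁻¹ * y * g) = a.1 y
        rw [hy, H25.extendByZero_of_mem P _ y.2]
    show (NS.filter fun g => cj P g a.1 = a.1).card = p
    rw [hset, ← Fintype.card_subtype, ← hcardP, Nat.card_eq_fintype_card]
  have hn0 : ∀ a c, n a c = 0 ↔ ∀ g ∈ NS, cj P g c.1 ≠ a.1 := fun a c => by
    simp [n, Finset.card_eq_zero, Finset.filter_eq_empty_iff]
  -- a fixed nontrivial character
  obtain ⟨ρ₀, hρ₀⟩ : ∃ ρ : Cfsg.IrrCharacter P, ρ ≠ H26.oneIrr P := by
    by_contra h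
    push Not at h
    have h1 := sum_charDegree_sq (G := P)
    rw [Finset.sum_eq_single (H26.oneIrr P) (fun b _ hb => absurd (h b) hb)
      (fun hh => absurd (Finset.mem_univ _) hh), charDegree_oneIrr, hcardP, one_pow] at h1
    exact hp.ne_one h1.symm
  set Far := fun ρ : Cfsg.IrrCharacter P => ρ ≠ H26.oneIrr P ∧ ∀ g ∈ NS, cj P g ρ₀.1 ≠ ρ.1
  have hδcoef : ∀ ρ : Cfsg.IrrCharacter P, ∃ c : Cfsg.IrrCharacter G → ℤ,
      (∀ χ : Cfsg.IrrCharacter G, Cfsg.classInner (Cfsg.indFun P (ρ₀.1 - ρ.1)) χ.1 = c χ) ∧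
        Cfsg.indFun P (ρ₀.1 - ρ.1) = ∑ χ : Cfsg.IrrCharacter G, (c χ : ℂ) • χ.1 := by
    intro ρ
    obtain ⟨u, hu, hue⟩ := H26.exists_nat_coeffs
      (H25.isCharacter_indFun P (H26.irr_isCharacter ρ₀))
    obtain ⟨v, hv, hve⟩ := H26.exists_nat_coeffs
      (H25.isCharacter_indFun P (H26.irr_isCharacter ρ))
    refine ⟨fun χ => (u χ : ℤ) - v χ, fun χ => ?_, ?_⟩
    · rw [H25.indFun_sub, H26.classInner_sub_left, hu, hv]
      push_cast; ring
    · rw [H25.indFun_sub, hue, hve, ← Finset.sum_sub_distrib]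
      refine Finset.sum_congr rfl fun χ _ => ?_
      rw [← sub_smul]; push_cast; rfl
  choose c hc hce using hδcoef
  have hnfar : ∀ ρ, Far ρ → n ρ₀ ρ = 0 ∧ n ρ ρ₀ = 0 := by
    intro ρ hρ
    refine ⟨(hn0 _ _).mpr fun g hg h => ?_, (hn0 _ _).mpr hρ.2⟩
    have hg' := (Finset.mem_filter.mp hg).2
    refine hρ.2 g⁻¹ (by simp [hNS, hg']) ?_
    rw [← h, cj_cj P g⁻¹ g ((Subgroup.normalizer (P : Set G)).inv_mem hg'), inv_mul_cancel, cj_one]
  have hip : ∀ ρ σ, Far ρ → Far σ →
      ∑ χ : Cfsg.IrrCharacter G, c ρ χ * c σ χ * (p : ℤ) = p + n ρ σ := by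
    intro ρ σ hρ hσ
    have h1 := hind ρ₀ ρ ρ₀ σ
    rw [(hnfar σ hσ).1, (hnfar ρ hρ).2, hnat ρ₀ hρ₀] at h1
    rw [H26.classInner_eq_sum _ _ (H25.isClassFunction_indFun P _)] at h1
    simp only [hc, map_intCast, Nat.cast_zero, sub_zero, zero_sub, sub_neg_eq_add] at h1
    have h2 : ((∑ χ : Cfsg.IrrCharacter G, c ρ χ * c σ χ * (p : ℤ) : ℤ) : ℂ) =
        ((p + n ρ σ : ℤ) : ℂ) := by
      push_cast
      rw [← Finset.sum_mul, h1, mul_comm, ← mul_assoc,
        mul_inv_cancel₀ (Nat.cast_ne_zero.mpr hp.ne_zero), one_mul]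
    exact_mod_cast h2
  have hδone : ∀ ρ, ∑ χ : Cfsg.IrrCharacter G, c ρ χ * (Cfsg.charDegree (χ : G → ℂ) : ℤ) = 0 := by
    intro ρ
    have h := congrFun (hce ρ) 1
    rw [show Cfsg.indFun P (ρ₀.1 - ρ.1) 1 = 0 by
      rw [H25.indFun_one]; simp [hlin]] at h
    simp only [Finset.sum_apply, Pi.smul_apply, smul_eq_mul, ← cast_charDegree] at h
    exact_mod_cast h.symm
  have hpair : ∀ ρ, Far ρ → ∀ u v, c ρ u ≠ 0 → c ρ v ≠ 0 →
      Cfsg.charDegree (u : G → ℂ) = Cfsg.charDegree (v : G → ℂ) := by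
    intro ρ hρ u v hu hv
    by_cases huv : u = v
    · rw [huv]
    have h2 : ∑ χ : Cfsg.IrrCharacter G, c ρ χ ^ 2 = 2 := by
      have h := hip ρ ρ hρ hρ
      rw [hnat ρ hρ.1, ← Finset.sum_mul] at h
      simp only [sq]
      have hp0 : (p : ℤ) ≠ 0 := by exact_mod_cast hp.ne_zero
      exact mul_right_cancel₀ hp0 (by rw [h]; ring)
    rw [← Finset.sum_sdiff (Finset.subset_univ {u, v}), Finset.sum_pair huv] at h2
    have h1u : 1 ≤ c ρ u ^ 2 := by
      have : 0 < c ρ u ^ 2 := by positivity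
      omega
    have h1v : 1 ≤ c ρ v ^ 2 := by
      have : 0 < c ρ v ^ 2 := by positivity
      omega
    have h0 : 0 ≤ ∑ χ ∈ Finset.univ \ {u, v}, c ρ χ ^ 2 := Finset.sum_nonneg fun χ _ => sq_nonneg _
    have hz : ∀ χ ∈ Finset.univ \ {u, v}, c ρ χ = 0 := fun χ hχ =>
      pow_eq_zero_iff two_ne_zero |>.mp
        ((Finset.sum_eq_zero_iff_of_nonneg fun χ _ => sq_nonneg _).mp (by omega) χ hχ)
    have h1 := hδone ρ
    rw [← Finset.sum_sdiff (Finset.subset_univ {u, v}), Finset.sum_pair huv,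
      Finset.sum_eq_zero (fun χ hχ => by rw [hz χ hχ, zero_mul]), zero_add] at h1
    have hcu : c ρ u = 1 ∨ c ρ u = -1 := sq_eq_one_iff.mp (by omega)
    have hcv : c ρ v = 1 ∨ c ρ v = -1 := sq_eq_one_iff.mp (by omega)
    have hdu := charDegree_pos u
    have hdv := charDegree_pos v
    rcases hcu with h | h <;> rcases hcv with h' | h' <;> rw [h, h'] at h1 <;> omega
  -- the characters outside the exceptional family vanish or are principal
  have hout' : ∀ χ : Cfsg.IrrCharacter G, χ ≠ H26.oneIrr G → χ.1 x ≠ 0 →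
      ∃ ρ, Far ρ ∧ c ρ χ ≠ 0 := by
    intro χ hχ hχx
    by_contra hall
    push Not at hall
    obtain ⟨m, hm, hres⟩ := exists_restr_coeffs P χ
    have hconst : ∀ ρ, ρ ≠ H26.oneIrr P → m ρ = m ρ₀ := by
      intro ρ hρ
      by_cases hfar : Far ρ
      · have h := hc ρ χ
        rw [hall ρ hfar] at h
        rw [H25.classInner_indFun_left P _ _ (H26.irr_isClassFunction χ),
          H26.classInner_sub_left, ← H25.conj_classInner, ← H25.conj_classInner (φ := fun y : P => χ.1 y),
          hm, hm] at h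
        simp only [Complex.conj_natCast, Int.cast_zero, sub_eq_zero] at h
        exact_mod_cast h.symm
      · simp only [Far, not_and, not_forall, not_not] at hfar
        obtain ⟨g, hg, hgρ⟩ := hfar hρ
        have hg' := (Finset.mem_filter.mp hg).2
        have hmem : ∀ y : P, g⁻¹ * y * g ∈ P := fun y => by
          have := (Subgroup.mem_normalizer_iff.mp
            ((Subgroup.normalizer (P : Set G)).inv_mem hg') y).mp y.2
          simpa using this
        have hmem' : ∀ y : P, g * y * g⁻¹ ∈ P := fun y =>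
          (Subgroup.mem_normalizer_iff.mp hg' y).mp y.2
        let e : P ≃ P :=
          { toFun := fun y => ⟨g⁻¹ * y * g, hmem y⟩
            invFun := fun y => ⟨g * y * g⁻¹, hmem' y⟩
            left_inv := fun y => Subtype.ext (by simp [mul_assoc])
            right_inv := fun y => Subtype.ext (by simp [mul_assoc]) }
        have h : Cfsg.classInner (fun y : P => χ.1 y) ρ.1 =
            Cfsg.classInner (fun y : P => χ.1 y) ρ₀.1 := by
          unfold Cfsg.classInner
          congr 1
          refine Fintype.sum_equiv e _ _ fun y => ?_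
          rw [← hgρ]
          show χ.1 y * conj (Cfsg.extendByZero P ρ₀.1 (g⁻¹ * y * g)) = _
          rw [H25.extendByZero_of_mem P _ (hmem y)]
          congr 1
          show χ.1 y = χ.1 (g⁻¹ * y * g)
          have h9 := H26.irr_conj χ (y : G) g⁻¹
          rw [inv_inv] at h9
          exact h9.symm
        rw [hm, hm] at h
        exact_mod_cast h
    set a := m ρ₀ with ha
    set c0 := m (H26.oneIrr P) with hc0
    have hval : ∀ y : P, χ.1 y =
        (c0 : ℂ) + (a : ℂ) * ((∑ ρ : Cfsg.IrrCharacter P, ρ.1 y) - 1) := by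
      intro y
      rw [hres y, ← Finset.add_sum_erase _ _ (Finset.mem_univ (H26.oneIrr P)), H26.oneIrr_val,
        mul_one, ← hc0]
      congr 1
      rw [← Finset.add_sum_erase _ (fun ρ : Cfsg.IrrCharacter P => ρ.1 y)
        (Finset.mem_univ (H26.oneIrr P)), H26.oneIrr_val, add_sub_cancel_left, Finset.mul_sum]
      exact Finset.sum_congr rfl fun ρ hρ => by rw [hconst ρ (Finset.mem_erase.mp hρ).1]
    have hsum1 : ∑ ρ : Cfsg.IrrCharacter P, ρ.1 1 = (p : ℂ) := by
      have h := sum_charDegree_sq (G := P)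
      simp only [degree_eq_one_of_comm hab, one_pow, Finset.sum_const, smul_eq_mul, mul_one,
        hcardP] at h
      simp only [hlin, Finset.sum_const, nsmul_eq_mul, mul_one, h]
    have hxP : x ∈ P := Subgroup.mem_zpowers x
    have hx1 : x ≠ 1 := fun h => hp.ne_one (by rw [← hx, h, orderOf_one])
    have hsumx : ∑ ρ : Cfsg.IrrCharacter P, ρ.1 ⟨x, hxP⟩ = 0 := by
      have h := H26.column_orthogonality (⟨x, hxP⟩ : P) (1 : P)
      simp only [H26.classIndicator] at h
      rw [if_neg (by rw [isConj_one_left] <;>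
        exact fun h => hx1 (congrArg Subtype.val h)), mul_zero] at h
      simpa [hlin] using h
    have hd : (Cfsg.charDegree (χ : G → ℂ) : ℤ) = c0 + a * ((p : ℤ) - 1) := by
      have h := hval 1
      rw [hsum1, OneMemClass.coe_one, ← cast_charDegree χ] at h
      exact_mod_cast h
    have hvx : χ.1 x = (c0 : ℂ) - a := by
      have h := hval ⟨x, hxP⟩
      rw [hsumx] at h
      rw [h]; ring
    have hd1 := degree_ne_one hna hχ
    rcases hdeg χ with h | h
    · exact hd1 h
    have hle := hmax χ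
    rcases hle.eq_or_lt with hp' | hlt
    · exact hχx (vanish hna hdeg₀ hp' hx.symm.dvd)
    rcases Nat.eq_zero_or_pos a with ha0 | hapos
    · refine norm_ne hna hχ hx1 ?_
      rw [hvx, ha0, Nat.cast_zero, sub_zero, Complex.norm_natCast]
      rw [ha0] at hd
      simp only [Nat.cast_zero, zero_mul, add_zero] at hd
      exact_mod_cast hd.symm
    have ha1 : a = 1 := by
      by_contra hne
      have h2 : (2 : ℤ) ≤ a := by omega
      have h3 : (2 : ℤ) * ((p : ℤ) - 1) ≤ a * ((p : ℤ) - 1) :=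
        mul_le_mul_of_nonneg_right h2 (by have := hp.two_le; omega)
      have := hp.two_le
      omega
    have hpdeg : Cfsg.charDegree (χ : G → ℂ) + 1 = p := by
      rw [ha1] at hd
      have := hp.two_le
      omega
    -- `p - 1` is prime only for `p = 3`
    rcases hp.eq_two_or_odd with hp2 | hodd
    · omega
    · have h2 : Cfsg.charDegree (χ : G → ℂ) = 2 :=
        ((Nat.prime_dvd_prime_iff_eq Nat.prime_two h).mp (by omega)).symm
      exact h23 χ (by omega) h2
  by_cases hex : ∃ χ : Cfsg.IrrCharacter G, χ ≠ H26.oneIrr G ∧ χ.1 x ≠ 0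
  swap
  · exact ⟨p, hp.ne_one, fun χ h1 h2 => absurd ⟨χ, h1, h2⟩ hex⟩
  obtain ⟨χ₁, hχ₁, hχ₁x⟩ := hex
  refine ⟨Cfsg.charDegree (χ₁ : G → ℂ), degree_ne_one hna hχ₁, fun χ hχ hχx => ?_⟩
  obtain ⟨ρ, hρ, hρc⟩ := hout' χ hχ hχx
  obtain ⟨σ, hσ, hσc⟩ := hout' χ₁ hχ₁ hχ₁x
  obtain ⟨w, hw1, hw2⟩ : ∃ w, c ρ w ≠ 0 ∧ c σ w ≠ 0 := by
    by_contra hcon
    push Not at hcon
    have h := hip ρ σ hρ hσ
    rw [Finset.sum_eq_zero fun w _ => by
      by_cases h0 : c ρ w = 0
      · rw [h0, zero_mul, zero_mul]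
      · rw [hcon w h0, mul_zero, zero_mul]] at h
    have := hp.pos
    omega
  rw [hpair ρ hρ χ w hρc hw1, ← hpair σ hσ χ₁ w hσc hw2]

/-- A nonabelian simple group has a nonlinear degree that is not prime. -/
theorem false_of_prime_degrees : False := by
  classical
  obtain ⟨g, hg⟩ : ∃ g : G, g ≠ 1 := exists_ne 1
  obtain ⟨χ₁, hχ₁⟩ : ∃ χ : Cfsg.IrrCharacter G, χ ≠ H26.oneIrr G := by
    by_contra h
    push Not at h
    exact false_of_one_degree (q := 0) (by norm_num) hg fun χ h1 _ => absurd (h χ) h1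
  -- degrees two and three only
  by_cases h2 : (∀ χ : Cfsg.IrrCharacter G, Cfsg.charDegree (χ : G → ℂ) ≤ 3) ∧
      ∃ χ : Cfsg.IrrCharacter G, Cfsg.charDegree (χ : G → ℂ) = 2
  · obtain ⟨hle, χ₂, hχ₂⟩ := h2
    haveI : Fact (Nat.Prime 2) := ⟨Nat.prime_two⟩
    obtain ⟨t, ht⟩ := exists_prime_orderOf_dvd_card' (G := G) 2 (hχ₂ ▸ charDegree_dvd_card χ₂)
    refine false_of_one_degree (q := 3) (by norm_num)
      (fun h => by rw [h, orderOf_one] at ht; norm_num at ht) (x := t) fun χ hχ hχt => ?_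
    have h1 := degree_ne_one hna hχ
    have h3 : Cfsg.charDegree (χ : G → ℂ) ≠ 2 := fun h => hχt (vanish hna hχ₂ h ht.symm.dvd)
    have := hle χ
    have := charDegree_pos χ
    omega
  haveI : Nonempty (Cfsg.IrrCharacter G) := ⟨H26.oneIrr G⟩
  obtain ⟨χ₀, -, hmax⟩ := Finset.exists_max_image Finset.univ
    (fun χ : Cfsg.IrrCharacter G => Cfsg.charDegree (χ : G → ℂ)) Finset.univ_nonempty
  have hmax' : ∀ χ : Cfsg.IrrCharacter G,
      Cfsg.charDegree (χ : G → ℂ) ≤ Cfsg.charDegree (χ₀ : G → ℂ) :=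
    fun χ => hmax χ (Finset.mem_univ _)
  have hp : (Cfsg.charDegree (χ₀ : G → ℂ)).Prime := by
    refine (hdeg χ₀).resolve_left fun h => ?_
    have := hmax' χ₁
    have := degree_ne_one hna hχ₁
    have := charDegree_pos χ₁
    omega
  haveI := Fact.mk hp
  obtain ⟨x, hx⟩ := exists_prime_orderOf_dvd_card' (G := G) (Cfsg.charDegree (χ₀ : G → ℂ))
    (charDegree_dvd_card χ₀)
  obtain ⟨q, hq, hall⟩ := exists_common_degree hna hdeg rfl hmax'
    (fun χ h3 hh => h2 ⟨fun φ => h3 ▸ hmax' φ, χ, hh⟩) hx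
  exact false_of_one_degree hq (fun h => hp.ne_one (by rw [← hx, h, orderOf_one])) hall

end Cfsg.Agent.H44.PrimeDeg
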