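import Mathlib
import Cfsg.Agent.H44.Codegree
import Cfsg.Agent.H44.ClassTools
import Cfsg.Agent.H25.Burnside
import Cfsg.Agent.H25.CharInd
import Cfsg.Agent.H27.Clifford
import Cfsg.Agent.H27.DefectZero

/-!
# No simple group has all its nonlinear degrees prime

If `p` is a degree, a Sylow `p`-subgroup has order `p` and is self-centralising.  For the largest
degree `p` the non-vanishing nonprincipal characters at an element of order `p` share one degree,
which contradicts column orthogonality.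
-/

set_option autoImplicit false
open scoped ComplexConjugate commutatorElement

namespace Cfsg.Agent.H44.PrimeDeg

/-- A central element has values of maximal absolute value. -/
theorem norm_eq_degree_of_central {P : Type*} [Group P] [Finite P] (ψ : Cfsg.IrrCharacter P)
    {z : P} (hz : ∀ y, y * z = z * y) : ‖ψ.1 z‖ = (Cfsg.charDegree (ψ : P → ℂ) : ℝ) := by
  classical
  haveI := Fintype.ofFinite P
  have h1 := sum_norm_sq_eq_card_centralizer (G := P) z
  have htop : Subgroup.centralizer ({z} : Set P) = ⊤ := eq_top_iff.mpr fun y _ => by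
    rw [Subgroup.mem_centralizer_singleton_iff]
    exact hz y
  rw [htop, Subgroup.card_top] at h1
  have h2 : ∑ φ : Cfsg.IrrCharacter P, (Cfsg.charDegree (φ : P → ℂ) : ℝ) ^ 2 =
      (Nat.card P : ℝ) := by exact_mod_cast sum_charDegree_sq (G := P)
  have hle : ∀ φ ∈ (Finset.univ : Finset (Cfsg.IrrCharacter P)),
      ‖φ.1 z‖ ^ 2 ≤ (Cfsg.charDegree (φ : P → ℂ) : ℝ) ^ 2 := fun φ _ =>
    pow_le_pow_left₀ (norm_nonneg _) (norm_irr_le φ z) 2
  have h3 := (Finset.sum_eq_sum_iff_of_le hle).mp (h1.trans h2.symm) ψ (Finset.mem_univ _)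
  exact (pow_left_inj₀ (norm_nonneg _) (Nat.cast_nonneg _) two_ne_zero).mp h3

/-- Irreducible characters of abelian groups are linear. -/
theorem degree_eq_one_of_comm {P : Type*} [Group P] [Finite P] (hc : ∀ a b : P, a * b = b * a)
    (ψ : Cfsg.IrrCharacter P) : Cfsg.charDegree (ψ : P → ℂ) = 1 := by
  classical
  haveI := Fintype.ofFinite P
  have h1 := H26.classInner_irr ψ ψ
  rw [if_pos rfl, Cfsg.classInner] at h1
  have h2 : ∀ y : P, ψ.1 y * conj (ψ.1 y) = ((Cfsg.charDegree (ψ : P → ℂ) : ℕ) : ℂ) ^ 2 := by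
    intro y
    rw [Complex.mul_conj, Complex.normSq_eq_norm_sq,
      norm_eq_degree_of_central ψ (fun b => hc b y)]
    norm_num
  simp only [h2, Finset.sum_const, Finset.card_univ, nsmul_eq_mul,
    ← Nat.card_eq_fintype_card] at h1
  rw [inv_mul_cancel_left₀ (Nat.cast_ne_zero.mpr Nat.card_pos.ne')] at h1
  have h3 : Cfsg.charDegree (ψ : P → ℂ) ^ 2 = 1 := by exact_mod_cast h1
  exact (Nat.pow_eq_one.mp h3).resolve_right two_ne_zero

variable {G : Type*} [Group G] [Finite G]

/-- The restriction to a subgroup as a combination with natural coefficients. -/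
theorem exists_restr_coeffs (P : Subgroup G) [Fintype P] (χ : Cfsg.IrrCharacter G) :
    ∃ m : Cfsg.IrrCharacter P → ℕ,
      (∀ ψ : Cfsg.IrrCharacter P, Cfsg.classInner (fun y : P => χ.1 y) ψ.1 = m ψ) ∧
      ∀ y : P, χ.1 y = ∑ ψ : Cfsg.IrrCharacter P, (m ψ : ℂ) * ψ.1 y := by
  obtain ⟨m, hm, he⟩ := H26.exists_nat_coeffs
    (H26.isCharacter_comp (H26.irr_isCharacter χ) P.subtype)
  refine ⟨m, hm, fun y => ?_⟩
  have h := congrFun he y
  simp only [Finset.sum_apply, Pi.smul_apply, smul_eq_mul] at h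
  exact h

/-- The nonprincipal characters not vanishing at some `x ≠ 1` cannot all have one degree `q`. -/
theorem false_of_one_degree [Fintype G] {q : ℕ} (hq : q ≠ 1) {x : G} (hx : x ≠ 1)
    (h : ∀ χ : Cfsg.IrrCharacter G, χ ≠ H26.oneIrr G → χ.1 x ≠ 0 →
      Cfsg.charDegree (χ : G → ℂ) = q) : False := by
  classical
  have hcol := H26.column_orthogonality x (1 : G)
  rw [H26.classIndicator, if_neg (by rw [isConj_one_left] <;> exact hx), mul_zero,
    ← Finset.add_sum_erase _ _ (Finset.mem_univ (H26.oneIrr G))] at hcol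
  set Z := ∑ χ ∈ Finset.univ.erase (H26.oneIrr G), χ.1 x with hZ
  have hsum : ∑ χ ∈ Finset.univ.erase (H26.oneIrr G), χ.1 x * conj (χ.1 1) = (q : ℂ) * Z := by
    rw [hZ, Finset.mul_sum]
    refine Finset.sum_congr rfl fun χ hχ => ?_
    rw [← cast_charDegree χ, Complex.conj_natCast]
    by_cases h0 : χ.1 x = 0
    · rw [h0, zero_mul, mul_zero]
    · rw [h χ (Finset.mem_erase.mp hχ).1 h0, mul_comm]
  rw [hsum, H26.oneIrr_val, H26.oneIrr_val, map_one, mul_one] at hcol
  have hZint : IsIntegral ℤ Z := IsIntegral.sum _ fun χ _ => by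
    obtain ⟨n, ρ, -, e⟩ := χ.2
    exact e ▸ H25.isIntegral_char ρ x
  rcases Nat.eq_zero_or_pos q with rfl | hq0
  · norm_num at hcol
  have : IsIntegral ℤ (((1 : ℕ) : ℂ) / (q : ℂ)) := by
    have : ((1 : ℕ) : ℂ) / (q : ℂ) = -Z := by
      rw [Nat.cast_one, div_eq_iff (Nat.cast_ne_zero.mpr hq0.ne')]
      linear_combination hcol
    rw [this]; exact hZint.neg
  exact hq (Nat.dvd_one.mp (H25.dvd_of_isIntegral_div hq0.ne' this))

variable [IsSimpleGroup G] (hna : ¬ ∀ a b : G, a * b = b * a)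
include hna

theorem commutator_eq_top : commutator G = ⊤ := by
  rcases (inferInstance : (commutator G).Normal).eq_bot_or_eq_top with h | h
  · refine absurd (fun a b => ?_) hna
    have h1 : ⁅a, b⁆ ∈ commutator G :=
      Subgroup.commutator_mem_commutator (Subgroup.mem_top a) (Subgroup.mem_top b)
    rw [h, Subgroup.mem_bot] at h1
    exact commutatorElement_eq_one_iff_mul_comm.mp h1
  · exact h

theorem kerOf_eq_bot {χ : Cfsg.IrrCharacter G} (hχ : χ ≠ H26.oneIrr G) : kerOf χ = ⊥ := by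
  haveI := kerOf_normal χ
  exact (IsSimpleGroup.eq_bot_or_eq_top_of_normal (kerOf χ) inferInstance).resolve_right
    fun h => hχ (eq_oneIrr_of_kerOf_eq_top h)

theorem degree_ne_one {χ : Cfsg.IrrCharacter G} (hχ : χ ≠ H26.oneIrr G) :
    Cfsg.charDegree (χ : G → ℂ) ≠ 1 := by
  intro h
  have h1 : χ.1 1 = 1 := by rw [← cast_charDegree χ, h, Nat.cast_one]
  have h2 := (irr_one_eq_one_iff χ).mp h1
  rw [commutator_eq_top hna, kerOf_eq_bot hna hχ, top_le_iff] at h2
  refine absurd (fun a b => ?_) hna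
  have ha : a = 1 := Subgroup.mem_bot.mp (h2 ▸ Subgroup.mem_top a)
  rw [ha, one_mul, mul_one]

/-- No nontrivial element has a value of maximal absolute value. -/
theorem norm_ne {χ : Cfsg.IrrCharacter G} (hχ : χ ≠ H26.oneIrr G) {g : G} (hg : g ≠ 1) :
    ‖χ.1 g‖ ≠ (Cfsg.charDegree (χ : G → ℂ) : ℝ) := by
  intro hn
  obtain ⟨n, ρ, -, e⟩ := id χ.2
  have hd : Cfsg.charDegree (χ : G → ℂ) = Module.finrank ℂ (Fin n → ℂ) := by
    rw [Cfsg.charDegree, ← e, ρ.char_one, Complex.natCast_re, Nat.floor_natCast]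
  rw [hd, ← e] at hn
  have hs := H25.apply_eq_smul_id_of_norm_eq ρ g hn
  have hinj : Function.Injective ρ := (MonoidHom.ker_eq_bot_iff ρ).mp (eq_bot_iff.mpr fun y hy => by
    rw [← kerOf_eq_bot hna hχ, mem_kerOf, ← e, (H25.char_eq_degree_iff ρ y).mpr hy, ρ.char_one])
  have hc : g ∈ Subgroup.center G := Subgroup.mem_center_iff.mpr fun y => by
    apply hinj
    rw [map_mul, map_mul, hs]
    simp [Module.End.mul_eq_comp]
  rcases (inferInstance : (Subgroup.center G).Normal).eq_bot_or_eq_top with h | h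
  · rw [h, Subgroup.mem_bot] at hc; exact hg hc
  · exact hna fun a b =>
      (Subgroup.mem_center_iff.mp (h ▸ Subgroup.mem_top a : a ∈ Subgroup.center G) b).symm

variable {p : ℕ} [Fact p.Prime] {χ₀ : Cfsg.IrrCharacter G}
  (hdeg₀ : Cfsg.charDegree (χ₀ : G → ℂ) = p)
include hdeg₀

theorem ne_one₀ : χ₀ ≠ H26.oneIrr G := by
  rintro rfl
  rw [charDegree_oneIrr] at hdeg₀
  exact (Fact.out : p.Prime).ne_one hdeg₀.symm

/-- A Sylow `p`-subgroup has order `p`. -/
theorem card_sylow (P : Sylow p G) : Nat.card P = p := by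
  classical
  have hp := (Fact.out : p.Prime)
  haveI := Fintype.ofFinite G
  haveI := Fintype.ofFinite (P : Subgroup G)
  have hne := ne_one₀ hna hdeg₀
  set Q : Subgroup G := (P : Subgroup G)
  have hQ1 : Nontrivial Q := by
    rw [← Finite.one_lt_card_iff_nontrivial]
    have h1 : p ∣ Nat.card G := hdeg₀ ▸ charDegree_dvd_card χ₀
    obtain ⟨k, hk⟩ := IsPGroup.iff_card.mp P.2
    rcases Nat.eq_zero_or_pos k with rfl | hk0
    · have := P.dvd_card_of_dvd_card h1
      rw [show Nat.card Q = p ^ 0 from hk, pow_zero] at this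
      exact absurd (Nat.dvd_one.mp this) hp.ne_one
    · rw [show Nat.card Q = p ^ k from hk]
      exact Nat.one_lt_pow hk0.ne' hp.one_lt
  -- the character vanishes on the nontrivial central elements
  have hvan : ∀ z : Q, (∀ y, y * z = z * y) → z ≠ 1 → χ₀.1 z = 0 := by
    intro z hz hz1
    obtain ⟨n, ρ, hirr, e⟩ := id χ₀.2
    haveI : ρ.IsIrreducible := hirr
    have hn : Module.finrank ℂ (Fin n → ℂ) = p := by
      rw [← hdeg₀, Cfsg.charDegree, ← e, ρ.char_one, Complex.natCast_re, Nat.floor_natCast]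
    have hle : Q ≤ Subgroup.centralizer ({(z : G)} : Set G) := fun y hy => by
      rw [Subgroup.mem_centralizer_singleton_iff]
      exact congrArg Subtype.val (hz ⟨y, hy⟩)
    have hcop : Nat.Coprime (Module.finrank ℂ (Fin n → ℂ))
        (Subgroup.centralizer ({(z : G)} : Set G)).index := by
      rw [hn, hp.coprime_iff_not_dvd]
      exact fun h => P.not_dvd_index (h.trans (Subgroup.index_dvd_of_le hle))
    rcases H25.char_eq_zero_or_norm_eq_of_coprime ρ (z : G) hcop with h | h
    · rw [← e]; exact h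
    · exfalso
      refine norm_ne hna hne (g := (z : G)) (fun h' => hz1 (Subtype.ext h')) ?_
      rw [hdeg₀, ← hn, ← e]
      exact h
  -- the Sylow subgroup is abelian
  obtain ⟨m, hm, hres⟩ := exists_restr_coeffs Q χ₀
  have hd1 : χ₀.1 1 = (p : ℂ) := by rw [← cast_charDegree χ₀, hdeg₀]
  have hab : ∀ a b : Q, a * b = b * a := by
    have hsum : ∑ ψ : Cfsg.IrrCharacter Q, m ψ * Cfsg.charDegree (ψ : Q → ℂ) = p := by
      have h := hres 1
      rw [OneMemClass.coe_one, hd1] at h
      simp only [← cast_charDegree] at h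
      exact_mod_cast h.symm
    by_cases hlin : ∀ ψ : Cfsg.IrrCharacter Q, m ψ ≠ 0 → Cfsg.charDegree (ψ : Q → ℂ) = 1
    · intro a b
      have hk : (⁅a, b⁆ : Q).1 ∈ kerOf χ₀ := by
        have h1 := hres (1 : Q)
        rw [OneMemClass.coe_one] at h1
        rw [mem_kerOf, hres ⁅a, b⁆, h1]
        refine Finset.sum_congr rfl fun ψ _ => ?_
        by_cases h0 : m ψ = 0
        · simp [h0]
        · have h2 : ψ.1 1 = 1 := by rw [← cast_charDegree ψ, hlin ψ h0, Nat.cast_one]
          rw [mem_kerOf.mp ((irr_one_eq_one_iff ψ).mp h2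
            (Subgroup.commutator_mem_commutator (Subgroup.mem_top a) (Subgroup.mem_top b)))]
      rw [kerOf_eq_bot hna hne, Subgroup.mem_bot] at hk
      exact commutatorElement_eq_one_iff_mul_comm.mp (Subtype.ext hk)
    · exfalso
      push Not at hlin
      obtain ⟨ψ, hψ0, hψ1⟩ := hlin
      obtain ⟨k, hk⟩ := IsPGroup.iff_card.mp P.2
      obtain ⟨j, -, hj⟩ := (Nat.dvd_prime_pow hp).mp (hk ▸ charDegree_dvd_card ψ :
        Cfsg.charDegree (ψ : Q → ℂ) ∣ p ^ k)
      have hj1 : 1 ≤ j := Nat.one_le_iff_ne_zero.mpr fun h => hψ1 (by rw [hj, h, pow_zero])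
      have hpψ : p ≤ Cfsg.charDegree (ψ : Q → ℂ) := hj ▸ Nat.le_self_pow (by omega) p
      rw [← Finset.add_sum_erase _ _ (Finset.mem_univ ψ)] at hsum
      have hmψ : 1 ≤ m ψ := Nat.one_le_iff_ne_zero.mpr hψ0
      have hle1 : p ≤ m ψ * Cfsg.charDegree (ψ : Q → ℂ) :=
        hpψ.trans (Nat.le_mul_of_pos_left _ hmψ)
      have hrest : ∀ φ ∈ Finset.univ.erase ψ, m φ = 0 := by
        intro φ hφ
        have h0 : ∑ φ ∈ Finset.univ.erase ψ, m φ * Cfsg.charDegree (φ : Q → ℂ) = 0 := by omega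
        exact (mul_eq_zero.mp (Finset.sum_eq_zero_iff.mp h0 φ hφ)).resolve_right
          (charDegree_pos φ).ne'
      obtain ⟨z, hz1, hzc⟩ : ∃ z : Q, z ≠ 1 ∧ ∀ y, y * z = z * y := by
        haveI := P.2.center_nontrivial
        obtain ⟨⟨z, hz⟩, hz1⟩ := exists_ne (1 : Subgroup.center Q)
        exact ⟨z, fun h => hz1 (Subtype.ext h), fun y => Subgroup.mem_center_iff.mp hz y⟩
      have h := hres z
      rw [hvan z hzc hz1, ← Finset.add_sum_erase _ _ (Finset.mem_univ ψ),
        Finset.sum_eq_zero (fun φ hφ => by rw [hrest φ hφ, Nat.cast_zero, zero_mul]), add_zero,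
        eq_comm, mul_eq_zero] at h
      rcases h with h | h
      · exact hψ0 (by exact_mod_cast h)
      · have := norm_eq_degree_of_central ψ hzc
        rw [h, norm_zero] at this
        exact (charDegree_pos ψ).ne' (by exact_mod_cast this.symm)
  -- the regular character
  obtain ⟨k, hk⟩ := H26.exists_nat_classInner_irr
    (H26.isCharacter_comp (H26.irr_isCharacter χ₀) Q.subtype) (H26.oneIrr Q)
  have hsum : ∑ y : Q, χ₀.1 y = (p : ℂ) := by
    rw [Finset.sum_eq_single (1 : Q) (fun y _ hy => hvan y (fun b => hab b y) hy)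
      (fun h => absurd (Finset.mem_univ _) h), OneMemClass.coe_one, hd1]
  simp only [Cfsg.classInner, H26.oneIrr_val, map_one, mul_one] at hk
  simp only [Function.comp_apply, Subgroup.coe_subtype] at hk
  rw [hsum,
    inv_mul_eq_iff_eq_mul₀ (Nat.cast_ne_zero.mpr Nat.card_pos.ne')] at hk
  have hdvd : Nat.card Q ∣ p := Dvd.intro k (by exact_mod_cast hk.symm)
  rcases (Nat.dvd_prime hp).mp hdvd with h | h
  · exact absurd h (ne_of_gt (Finite.one_lt_card_iff_nontrivial.mpr hQ1))
  · exact h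

/-- A character of degree `p` vanishes on the `p`-singular elements. -/
theorem vanish {χ : Cfsg.IrrCharacter G} (hχ : Cfsg.charDegree (χ : G → ℂ) = p) {x : G}
    (hx : p ∣ orderOf x) : χ.1 x = 0 := by
  haveI := Fintype.ofFinite G
  have hP := card_sylow hna hdeg₀ (default : Sylow p G)
  have h1 := Sylow.card_eq_multiplicity (default : Sylow p G)
  rw [hP] at h1
  have h2 : (Nat.card G).factorization p = 1 :=
    Nat.pow_right_injective (Fact.out : p.Prime).two_le (by simpa using h1.symm)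
  refine H27.char_eq_zero_of_defect_zero χ (p := p) (n := 1) Fact.out ?_ ?_
    (d := p) (by rw [← cast_charDegree χ, hχ]) (by simp) x hx
  · rw [pow_one, ← hP]; exact Subgroup.card_subgroup_dvd_card _
  · intro h
    have := ((Fact.out : p.Prime).pow_dvd_iff_le_factorization Nat.card_pos.ne').mp h
    omega

/-- An element of order `p` commutes with no nontrivial element of order prime to `p`. -/
theorem eq_one_of_commute {x m : G} (hx : orderOf x = p) (hc : Commute x m)
    (hm : ¬ p ∣ orderOf m) : m = 1 := by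
  classical
  have hp := (Fact.out : p.Prime)
  by_contra hm1
  obtain ⟨n, ρ, -, e⟩ := id χ₀.2
  have hcop : Nat.Coprime (orderOf x) (orderOf m) := by
    rw [hx]; exact hp.coprime_iff_not_dvd.mpr hm
  obtain ⟨a, ha0, ha1⟩ := Nat.chineseRemainder hcop 1 0
  obtain ⟨b, hb0, hb1⟩ := Nat.chineseRemainder hcop 0 1
  have hxa : (x * m) ^ a = x := by
    rw [hc.mul_pow, orderOf_dvd_iff_pow_eq_one.mp (Nat.modEq_zero_iff_dvd.mp ha1), mul_one]
    conv_rhs => rw [← pow_one x]
    exact pow_eq_pow_iff_modEq.mpr ha0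
  have hxb : (x * m) ^ b = m := by
    rw [hc.mul_pow, orderOf_dvd_iff_pow_eq_one.mp (Nat.modEq_zero_iff_dvd.mp hb0), one_mul]
    conv_rhs => rw [← pow_one m]
    exact pow_eq_pow_iff_modEq.mpr hb1
  obtain ⟨B, μ, hB, hμo, -⟩ := H25.exists_eigenbasis ρ (x * m)
  have hev : ∀ (k : ℕ) i, ρ ((x * m) ^ k) (B i) = μ i ^ k • B i := by
    intro k i
    induction k with
    | zero => simp
    | succ k ih => rw [pow_succ', map_mul, Module.End.mul_apply, ih, map_smul, hB, smul_smul, pow_succ]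
  have hval : ∀ i : ℕ, χ₀.1 (x ^ i * m) = ∑ j, (μ j ^ a) ^ i * μ j ^ b := by
    intro i
    have h : x ^ i * m = (x * m) ^ (a * i + b) := by rw [pow_add, pow_mul, hxa, hxb]
    rw [← e, h]
    show LinearMap.trace ℂ _ (ρ ((x * m) ^ (a * i + b))) = _
    rw [H25.trace_eq_sum_of_eigenbasis _ B _ (hev (a * i + b))]
    exact Finset.sum_congr rfl fun j _ => by rw [pow_add, pow_mul]
  have hval1 : ∀ i : ℕ, χ₀.1 (x ^ i) = ∑ j, (μ j ^ a) ^ i := by
    intro i
    have h : x ^ i = (x * m) ^ (a * i) := by rw [pow_mul, hxa]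
    rw [← e, h]
    show LinearMap.trace ℂ _ (ρ ((x * m) ^ (a * i))) = _
    rw [H25.trace_eq_sum_of_eigenbasis _ B _ (hev (a * i))]
    exact Finset.sum_congr rfl fun j _ => by rw [pow_mul]
  have hω : ∀ j, (μ j ^ a) ^ p = 1 := by
    intro j
    rw [← pow_mul]
    obtain ⟨c, hc'⟩ := (orderOf_dvd_iff_pow_eq_one.mpr (by
      rw [pow_mul, hxa, ← hx, pow_orderOf_eq_one]) : orderOf (x * m) ∣ a * p)
    rw [hc', pow_mul, hμo j, one_pow]
  have hgeom : ∀ j, ∑ i ∈ Finset.range p, (μ j ^ a) ^ i =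
      if μ j ^ a = 1 then (p : ℂ) else 0 := by
    intro j
    split_ifs with h
    · simp [h]
    · rw [geom_sum_eq h, hω j, sub_self, zero_div]
  have hpi : ∀ i ∈ Finset.range p, i ≠ 0 → ¬ p ∣ i := fun i hi hi0 h =>
    absurd (Nat.le_of_dvd (Nat.pos_of_ne_zero hi0) h) (not_le.mpr (Finset.mem_range.mp hi))
  have hord : ∀ i, ¬ p ∣ i → orderOf (x ^ i) = p := by
    intro i hi
    rw [Nat.Coprime.orderOf_pow (hx.symm ▸ hp.coprime_iff_not_dvd.mpr hi), hx]
  have hsm : ∑ i ∈ Finset.range p, χ₀.1 (x ^ i * m) = χ₀.1 m := by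
    rw [Finset.sum_eq_single 0 (fun i hi hi0 => vanish hna hdeg₀ hdeg₀ ?_)
      (fun h => absurd (Finset.mem_range.mpr hp.pos) h), pow_zero, one_mul]
    have hi' := hord i (hpi i hi hi0)
    rw [(hc.pow_left i).orderOf_mul_eq_mul_orderOf_of_coprime (by rw [hi']; exact hx ▸ hcop),
      hi']
    exact dvd_mul_right p _
  have hs1 : ∑ i ∈ Finset.range p, χ₀.1 (x ^ i) = (p : ℂ) := by
    rw [Finset.sum_eq_single 0 (fun i hi hi0 => vanish hna hdeg₀ hdeg₀ ?_)
      (fun h => absurd (Finset.mem_range.mpr hp.pos) h), pow_zero, ← cast_charDegree χ₀, hdeg₀]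
    rw [hord i (hpi i hi hi0)]
  simp only [hval] at hsm
  simp only [hval1] at hs1
  rw [Finset.sum_comm] at hsm hs1
  simp only [← Finset.sum_mul, hgeom, ite_mul, zero_mul] at hsm
  simp only [hgeom] at hs1
  rw [← Finset.sum_filter] at hsm hs1
  have hcard : (Finset.univ.filter fun j => μ j ^ a = 1).card = 1 := by
    rw [Finset.sum_const, nsmul_eq_mul] at hs1
    have h : ((Finset.univ.filter fun j => μ j ^ a = 1).card : ℂ) * p = (1 : ℕ) * (p : ℂ) := by
      rw [hs1, Nat.cast_one, one_mul]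
    exact_mod_cast mul_right_cancel₀ (Nat.cast_ne_zero.mpr hp.ne_zero) h
  obtain ⟨j, hj⟩ := Finset.card_eq_one.mp hcard
  rw [hj, Finset.sum_singleton] at hsm
  refine norm_ne hna (ne_one₀ hna hdeg₀) hm1 ?_
  rw [← hsm, norm_mul, Complex.norm_natCast, hdeg₀, norm_pow,
    Complex.norm_eq_one_of_pow_eq_one (hμo j) (orderOf_pos _).ne', one_pow, mul_one]

/-- Elements of order `p` are self-centralising. -/
theorem centralizer_eq {x : G} (hx : orderOf x = p) :
    Subgroup.centralizer ({x} : Set G) = Subgroup.zpowers x := by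
  classical
  have hp := (Fact.out : p.Prime)
  have hle : Subgroup.zpowers x ≤ Subgroup.centralizer ({x} : Set G) :=
    Subgroup.zpowers_le.mpr (Subgroup.mem_centralizer_singleton_iff.mpr rfl)
  have hC : IsPGroup p (Subgroup.centralizer ({x} : Set G)) := by
    rw [IsPGroup.iff_card]
    refine ⟨_, Nat.eq_prime_pow_of_unique_prime_dvd Nat.card_pos.ne' fun {r} hr hrd => ?_⟩
    haveI := Fact.mk hr
    obtain ⟨⟨m, hm⟩, hmo⟩ := exists_prime_orderOf_dvd_card' r hrd
    by_contra hrp
    have hmo' : orderOf m = r := by rw [← hmo, Subgroup.orderOf_mk]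
    have h1 := eq_one_of_commute hna hdeg₀ hx
      (show Commute x m from (Subgroup.mem_centralizer_singleton_iff.mp hm).symm)
      (by rw [hmo']; exact fun h => hrp ((Nat.prime_dvd_prime_iff_eq hp hr).mp h).symm)
    rw [h1, orderOf_one] at hmo'
    exact hr.ne_one hmo'.symm
  obtain ⟨P, hP⟩ := hC.exists_le_sylow
  refine (Subgroup.eq_of_le_of_card_ge hle ?_).symm
  rw [Nat.card_zpowers, hx, ← card_sylow hna hdeg₀ P]
  exact Subgroup.card_le_of_le hP

end Cfsg.Agent.H44.PrimeDeg
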