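import Cfsg.Agent.H44.WreathSylowTwo
import Cfsg.Agent.H2.Card
import Cfsg.Agent.H6.Basic

/-!
# A wreath product inside the symplectic group
-/

set_option autoImplicit false
open Matrix Equiv

namespace Cfsg.Agent.H44.SpWreath

variable (F : Type*) [Field F] (n : ℕ)

/-- Diagonal copies of `SL₂`. -/
def base : (Fin n → SpecialLinearGroup (Fin 2) F) →* Matrix.symplecticGroup (Fin n) F where
  toFun f := ⟨fromBlocks (diagonal fun i => f i 0 0) (diagonal fun i => f i 0 1)
      (diagonal fun i => f i 1 0) (diagonal fun i => f i 1 1), by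
    rw [SymplecticGroup.mem_iff']
    simp only [Matrix.J, fromBlocks_transpose, diagonal_transpose, fromBlocks_multiply,
      Matrix.mul_zero, Matrix.zero_mul, Matrix.mul_neg, Matrix.mul_one, zero_add,
      add_zero, neg_mul, diagonal_mul_diagonal, diagonal_neg, diagonal_add]
    have hdet : ∀ i, f i 0 0 * f i 1 1 - f i 0 1 * f i 1 0 = 1 := fun i => by
      rw [← Matrix.det_fin_two]; exact (f i).2
    rw [← diagonal_one, ← diagonal_zero, diagonal_neg]
    congr 1 <;> · congr 1; funext i; first | ring1 | linear_combination (hdet i) | linear_combination -(hdet i)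
    ⟩
  map_one' := by
    refine Subtype.ext ?_
    simp
  map_mul' f g := by
    refine Subtype.ext ?_
    simp [fromBlocks_multiply, Matrix.mul_apply, Fin.sum_univ_two, diagonal_add]

/-- Permutations of the hyperbolic planes. -/
def perm : Perm (Fin n) →* Matrix.symplecticGroup (Fin n) F where
  toFun π := ⟨fromBlocks (permMatrixHom π) 0 0 (permMatrixHom π), by
    rw [SymplecticGroup.mem_iff']
    have h : (permMatrixHom (R := F) π)ᵀ * permMatrixHom π = 1 := by
      show (π⁻¹.permMatrix F)ᵀ * π⁻¹.permMatrix F = 1
      rw [Matrix.transpose_permMatrix, ← Matrix.permMatrix_mul, mul_inv_cancel, Matrix.permMatrix_one]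
    generalize permMatrixHom (R := F) π = P at h ⊢
    simp [Matrix.J, fromBlocks_transpose, fromBlocks_multiply, h]⟩
  map_one' := by
    refine Subtype.ext ?_
    simp
  map_mul' π σ := by
    refine Subtype.ext ?_
    simp [fromBlocks_multiply, map_mul]

theorem base_injective : Function.Injective (base F n) := fun f g h => funext fun i => by
  have h' := congrArg Subtype.val h
  obtain ⟨h00, h01, h10, h11⟩ := fromBlocks_inj.mp h'
  refine Subtype.ext (Matrix.ext fun a b => ?_)
  have := congrFun (diagonal_injective h00) i
  have := congrFun (diagonal_injective h01) i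
  have := congrFun (diagonal_injective h10) i
  have := congrFun (diagonal_injective h11) i
  fin_cases a <;> fin_cases b <;> assumption

theorem permMatrixHom_apply' (π : Perm (Fin n)) (i j : Fin n) :
    (permMatrixHom (R := F) π) i j = if π.symm i = j then 1 else 0 := by
  show (π⁻¹).permMatrix F i j = _
  simp [Equiv.Perm.permMatrix, PEquiv.toMatrix_apply, eq_comm]

theorem eq_one_of_base_eq_perm (f : Fin n → SpecialLinearGroup (Fin 2) F) (π : Perm (Fin n))
    (h : base F n f = perm F n π) : π = 1 := by
  have h' := congrArg Subtype.val h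
  obtain ⟨h00, -, -, -⟩ := fromBlocks_inj.mp h'
  refine Equiv.ext fun j => ?_
  by_contra hne
  have h1 := congrFun (congrFun h00 (π j)) j
  rw [diagonal_apply_ne _ (show π j ≠ j from hne), permMatrixHom_apply', Equiv.symm_apply_apply, if_pos rfl] at h1
  exact zero_ne_one h1

theorem perm_injective : Function.Injective (perm F n) := by
  rw [injective_iff_map_eq_one]
  intro π hπ
  exact eq_one_of_base_eq_perm F n 1 π (by rw [map_one, hπ])

theorem perm_conj (π : Perm (Fin n)) (f : Fin n → SpecialLinearGroup (Fin 2) F) :
    perm F n π * base F n f * (perm F n π)⁻¹ = base F n (f ∘ π.symm) := by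
  rw [mul_inv_eq_iff_eq_mul]
  refine Subtype.ext ?_
  have key : ∀ d : Fin n → F,
      permMatrixHom π * diagonal d = diagonal (d ∘ π.symm) * permMatrixHom π := by
    intro d
    ext i j
    rw [Matrix.mul_diagonal, Matrix.diagonal_mul, permMatrixHom_apply']
    split_ifs with h
    · rw [← h]; simp
    · simp
  show fromBlocks (permMatrixHom π) 0 0 (permMatrixHom π) * fromBlocks _ _ _ _ =
    fromBlocks _ _ _ _ * fromBlocks (permMatrixHom π) 0 0 (permMatrixHom π)
  rw [fromBlocks_multiply, fromBlocks_multiply]
  simp only [Matrix.zero_mul, Matrix.mul_zero, add_zero, zero_add, key]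
  rfl

variable [Fintype F]

theorem padic_card (hF : Odd (Fintype.card F)) :
    padicValNat 2 (Nat.card (Matrix.symplecticGroup (Fin n) F)) =
      n * padicValNat 2 (Nat.card (SpecialLinearGroup (Fin 2) F)) +
        padicValNat 2 n.factorial := by
  have h1 : 1 < Fintype.card F := Fintype.one_lt_card
  rw [H2.card_sp, H6.card_sl2 rfl, Nat.card_eq_fintype_card]
  set q := Fintype.card F
  have hq0 : padicValNat 2 q = 0 := padicValNat.eq_zero_of_not_dvd
    fun h => Nat.not_even_iff_odd.mpr hF (even_iff_two_dvd.mpr h)
  have hne : ∀ i, q ^ (2 * (i + 1)) - 1 ≠ 0 := fun i => by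
    have := Nat.one_lt_pow (show 2 * (i + 1) ≠ 0 by omega) h1
    omega
  rw [padicValNat.mul (pow_ne_zero _ (by omega)) (Finset.prod_ne_zero_iff.mpr fun i _ => hne i),
    padicValNat.pow _ _, hq0, mul_zero, zero_add, padicValNat.mul (by omega)
      (by have := hne 0; simpa using this), hq0, zero_add]
  induction n with
  | zero => simp
  | succ m ih =>
    rw [Finset.prod_range_succ, padicValNat.mul (Finset.prod_ne_zero_iff.mpr fun i _ => hne i)
      (hne m), ih, padic_even_pow_sub_one hF h1, Nat.factorial_succ,
      padicValNat.mul (by omega) m.factorial_ne_zero]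
    ring

end Cfsg.Agent.H44.SpWreath
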